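import Mathlib
import Cfsg.Agent.CharDeep.IrrEquiv

/-!
# The commutator pairing attached to an invariant irreducible representation

`i : N →* G` is an injective homomorphism, `ρ` an irreducible representation of `N` on `V`.
`Tw i ρ x A` : `A ∈ GL(V)` carries `ρ n` to `ρ (x n x⁻¹)`.
`W i ρ x y w` : for such `A`, `B` over `x`, `y`, and `⁅x, y⁆ = i c`, one has `A B = w ρ(c) B A`.
The number `w` depends only on `x`, `y`; it is multiplicative in both variables and alternating.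
-/

set_option autoImplicit false

namespace Cfsg.Agent.H676.RM.Pair

open Module Cfsg.Agent.CharDeep.IrrEquiv
open scoped commutatorElement

variable {N G V : Type*} [Group N] [Group G] [AddCommGroup V] [Module ℂ V]

/-- `A` carries `ρ n` to `ρ (x n x⁻¹)`, and `x` normalises the image of `N`. -/
structure Tw (i : N →* G) (ρ : Representation ℂ N V) (x : G) (A : (V →ₗ[ℂ] V)ˣ) : Prop where
  nrm : ∀ n, ∃ n', i n' = x * i n * x⁻¹
  nrm' : ∀ n, ∃ n', i n' = x⁻¹ * i n * x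
  int : ∀ n n', i n' = x * i n * x⁻¹ → (A : V →ₗ[ℂ] V) * ρ n = ρ n' * A

theorem Tw.one (i : N →* G) (hi : Function.Injective i) (ρ : Representation ℂ N V) :
    Tw i ρ 1 1 where
  nrm n := ⟨n, by simp⟩
  nrm' n := ⟨n, by simp⟩
  int n n' h := by
    have : n' = n := hi (by simpa using h)
    rw [this, Units.val_one, one_mul, mul_one]

theorem Tw.mul {i : N →* G} {ρ : Representation ℂ N V} {x y : G} {A B : (V →ₗ[ℂ] V)ˣ}
    (hA : Tw i ρ x A) (hB : Tw i ρ y B) : Tw i ρ (x * y) (A * B) where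
  nrm n := by
    obtain ⟨n', hn'⟩ := hB.nrm n
    obtain ⟨n'', hn''⟩ := hA.nrm n'
    exact ⟨n'', by rw [hn'', hn']; group⟩
  nrm' n := by
    obtain ⟨n', hn'⟩ := hA.nrm' n
    obtain ⟨n'', hn''⟩ := hB.nrm' n'
    exact ⟨n'', by rw [hn'', hn']; group⟩
  int n n'' h := by
    obtain ⟨n', hn'⟩ := hB.nrm n
    rw [Units.val_mul, mul_assoc, hB.int n n' hn', ← mul_assoc,
      hA.int n' n'' (by rw [h, hn']; group), mul_assoc]

theorem Tw.inv {i : N →* G} {ρ : Representation ℂ N V} {x : G} {A : (V →ₗ[ℂ] V)ˣ}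
    (hA : Tw i ρ x A) : Tw i ρ x⁻¹ A⁻¹ where
  nrm n := by simpa using hA.nrm' n
  nrm' n := by simpa using hA.nrm n
  int n n' h := by
    have h1 := hA.int n' n (by rw [h]; group)
    have h2 : ((A⁻¹ : (V →ₗ[ℂ] V)ˣ) : V →ₗ[ℂ] V) * (A : V →ₗ[ℂ] V) = 1 := A.inv_mul
    have h3 : (A : V →ₗ[ℂ] V) * ((A⁻¹ : (V →ₗ[ℂ] V)ˣ) : V →ₗ[ℂ] V) = 1 := A.mul_inv
    calc ((A⁻¹ : (V →ₗ[ℂ] V)ˣ) : V →ₗ[ℂ] V) * ρ n
        = ((A⁻¹ : (V →ₗ[ℂ] V)ˣ) : V →ₗ[ℂ] V) * (ρ n * (A : V →ₗ[ℂ] V)) *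
          ((A⁻¹ : (V →ₗ[ℂ] V)ˣ) : V →ₗ[ℂ] V) := by rw [mul_assoc, mul_assoc, h3, mul_one]
      _ = ((A⁻¹ : (V →ₗ[ℂ] V)ˣ) : V →ₗ[ℂ] V) * ((A : V →ₗ[ℂ] V) * ρ n') *
          ((A⁻¹ : (V →ₗ[ℂ] V)ˣ) : V →ₗ[ℂ] V) := by rw [h1]
      _ = ρ n' * ((A⁻¹ : (V →ₗ[ℂ] V)ˣ) : V →ₗ[ℂ] V) := by
          rw [← mul_assoc ((A⁻¹ : (V →ₗ[ℂ] V)ˣ) : V →ₗ[ℂ] V), h2, one_mul]

/-- `ρ n` as a unit. -/
def un (ρ : Representation ℂ N V) (n : N) : (V →ₗ[ℂ] V)ˣ := MonoidHom.toHomUnits ρ n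

theorem un_val (ρ : Representation ℂ N V) (n : N) : ((un ρ n : (V →ₗ[ℂ] V)ˣ) : V →ₗ[ℂ] V) = ρ n :=
  rfl

theorem Tw.of_mem (i : N →* G) (hi : Function.Injective i) (ρ : Representation ℂ N V) (a : N) :
    Tw i ρ (i a) (un ρ a) where
  nrm n := ⟨a * n * a⁻¹, by simp⟩
  nrm' n := ⟨a⁻¹ * n * a, by simp⟩
  int n n' h := by
    have : n' = a * n * a⁻¹ := hi (by rw [h]; simp)
    rw [this, un_val, ← map_mul, ← map_mul]
    congr 1
    group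

/-- Intertwiners are unique up to scalars. -/
theorem Tw.unique [FiniteDimensional ℂ V] {i : N →* G} {ρ : Representation ℂ N V}
    (hρ : ρ.IsIrreducible) {x : G} {A B : (V →ₗ[ℂ] V)ˣ} (hA : Tw i ρ x A) (hB : Tw i ρ x B) :
    ∃ c : ℂ, (B : V →ₗ[ℂ] V) = c • (A : V →ₗ[ℂ] V) := by
  have h2 : (A : V →ₗ[ℂ] V) * ((A⁻¹ : (V →ₗ[ℂ] V)ˣ) : V →ₗ[ℂ] V) = 1 := A.mul_inv
  obtain ⟨c, hc⟩ := exists_smul_of_commute ρ hρ
    (((A⁻¹ : (V →ₗ[ℂ] V)ˣ) : V →ₗ[ℂ] V) * (B : V →ₗ[ℂ] V)) (fun n => by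
      obtain ⟨n', hn'⟩ := hB.nrm n
      have h1 := hA.inv.int n' n (by rw [hn']; group)
      rw [mul_assoc, hB.int n n' hn', ← mul_assoc, h1, mul_assoc])
  refine ⟨c, ?_⟩
  calc (B : V →ₗ[ℂ] V) = (A : V →ₗ[ℂ] V) *
        (((A⁻¹ : (V →ₗ[ℂ] V)ˣ) : V →ₗ[ℂ] V) * (B : V →ₗ[ℂ] V)) := by
          rw [← mul_assoc, h2, one_mul]
    _ = c • (A : V →ₗ[ℂ] V) := by rw [hc, mul_smul_comm, mul_one]

/-- The pairing. -/
def W (i : N →* G) (ρ : Representation ℂ N V) (x y : G) (w : ℂ) : Prop :=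
  ∃ A B : (V →ₗ[ℂ] V)ˣ, Tw i ρ x A ∧ Tw i ρ y B ∧ ∃ c, i c = ⁅x, y⁆ ∧
    (A : V →ₗ[ℂ] V) * (B : V →ₗ[ℂ] V) = w • (ρ c * ((B : V →ₗ[ℂ] V) * (A : V →ₗ[ℂ] V)))

theorem W.eqn [FiniteDimensional ℂ V] {i : N →* G} (hi : Function.Injective i)
    {ρ : Representation ℂ N V} (hρ : ρ.IsIrreducible) {x y : G} {w : ℂ} (h : W i ρ x y w)
    {A B : (V →ₗ[ℂ] V)ˣ} (hA : Tw i ρ x A) (hB : Tw i ρ y B) {c : N} (hc : i c = ⁅x, y⁆) :
    (A : V →ₗ[ℂ] V) * (B : V →ₗ[ℂ] V) = w • (ρ c * ((B : V →ₗ[ℂ] V) * (A : V →ₗ[ℂ] V))) := by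
  obtain ⟨A', B', hA', hB', c', hc', h⟩ := h
  obtain ⟨a, ha⟩ := hA'.unique hρ hA
  obtain ⟨b, hb⟩ := hB'.unique hρ hB
  have : c = c' := hi (hc.trans hc'.symm)
  subst this
  rw [ha, hb]
  simp only [smul_mul_assoc, mul_smul_comm, h]
  rw [smul_comm w a, smul_comm w b, smul_comm b a]

theorem W.unique [FiniteDimensional ℂ V] {i : N →* G} (hi : Function.Injective i)
    {ρ : Representation ℂ N V} (hρ : ρ.IsIrreducible) {x y : G} {w w' : ℂ} (h : W i ρ x y w)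
    (h' : W i ρ x y w') : w = w' := by
  have hV : Nontrivial V := ((Cfsg.Agent.CharDeep.LinearChar.isIrreducible_iff ρ).1 hρ).1
  obtain ⟨A, B, hA, hB, c, hc, h1⟩ := h
  have h2 := h'.eqn hi hρ hA hB hc
  rw [h1] at h2
  have hu : IsUnit (ρ c * ((B : V →ₗ[ℂ] V) * (A : V →ₗ[ℂ] V))) :=
    ⟨un ρ c * (B * A), rfl⟩
  obtain ⟨u, hu⟩ := hu
  rw [← hu] at h2
  have h3 : (w - w') • (u : V →ₗ[ℂ] V) = 0 := by rw [sub_smul, h2, sub_self]
  rcases smul_eq_zero.1 h3 with h4 | h4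
  · exact sub_eq_zero.1 h4
  · exact absurd h4 u.ne_zero

theorem W.ne_zero [FiniteDimensional ℂ V] {i : N →* G}
    {ρ : Representation ℂ N V} (hρ : ρ.IsIrreducible) {x y : G} {w : ℂ} (h : W i ρ x y w) :
    w ≠ 0 := by
  have hV : Nontrivial V := ((Cfsg.Agent.CharDeep.LinearChar.isIrreducible_iff ρ).1 hρ).1
  rintro rfl
  obtain ⟨A, B, hA, hB, c, hc, h1⟩ := h
  rw [zero_smul] at h1
  exact (A * B).ne_zero h1

theorem exists_W [FiniteDimensional ℂ V] {i : N →* G} (hi : Function.Injective i)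
    {ρ : Representation ℂ N V} (hρ : ρ.IsIrreducible) {x y : G} {A B : (V →ₗ[ℂ] V)ˣ}
    (hA : Tw i ρ x A) (hB : Tw i ρ y B) {c : N} (hc : i c = ⁅x, y⁆) : ∃ w, W i ρ x y w := by
  have h1 : Tw i ρ (x * y) (A * B) := hA.mul hB
  have h2 : Tw i ρ (x * y) (un ρ c * (B * A)) := by
    have := (Tw.of_mem i hi ρ c).mul (hB.mul hA)
    rwa [hc, show ⁅x, y⁆ * (y * x) = x * y by rw [commutatorElement_def]; group] at this
  obtain ⟨w, hw⟩ := h2.unique hρ h1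
  exact ⟨w, A, B, hA, hB, c, hc, hw⟩

/-- multiplicativity in the first variable -/
theorem W.mul_left [FiniteDimensional ℂ V] {i : N →* G} (hi : Function.Injective i)
    {ρ : Representation ℂ N V} (hρ : ρ.IsIrreducible) {x x' y : G} {w w' : ℂ} (h : W i ρ x y w)
    (h' : W i ρ x' y w') : W i ρ (x * x') y (w * w') := by
  obtain ⟨A, B, hA, hB, c, hc, h1⟩ := h
  obtain ⟨A', B', hA', hB', c', hc', h2⟩ := h'
  have h2 := (show W i ρ x' y w' from ⟨A', B', hA', hB', c', hc', h2⟩).eqn hi hρ hA' hB hc'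
  obtain ⟨d, hd⟩ := hA.nrm c'
  refine ⟨A * A', B, hA.mul hA', hB, d * c, ?_, ?_⟩
  · rw [map_mul, hd, hc, hc', commutatorElement_def, commutatorElement_def, commutatorElement_def]
    group
  · have h3 := hA.int c' d hd
    calc ((A * A' : (V →ₗ[ℂ] V)ˣ) : V →ₗ[ℂ] V) * (B : V →ₗ[ℂ] V)
        = (A : V →ₗ[ℂ] V) * ((A' : V →ₗ[ℂ] V) * (B : V →ₗ[ℂ] V)) := by
          rw [Units.val_mul, mul_assoc]
      _ = w' • ((A : V →ₗ[ℂ] V) * ρ c' * ((B : V →ₗ[ℂ] V) * (A' : V →ₗ[ℂ] V))) := by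
          rw [h2, mul_smul_comm, mul_assoc]
      _ = w' • (ρ d * ((A : V →ₗ[ℂ] V) * (B : V →ₗ[ℂ] V)) * (A' : V →ₗ[ℂ] V)) := by
          rw [h3]; simp only [mul_assoc]
      _ = (w * w') • (ρ (d * c) * ((B : V →ₗ[ℂ] V) *
            ((A * A' : (V →ₗ[ℂ] V)ˣ) : V →ₗ[ℂ] V))) := by
          rw [h1, Units.val_mul, map_mul]
          simp only [mul_smul_comm, smul_mul_assoc, mul_assoc, smul_smul]
          rw [mul_comm w' w]

/-- antisymmetry -/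
theorem W.symm [FiniteDimensional ℂ V] {i : N →* G}
    {ρ : Representation ℂ N V} (hρ : ρ.IsIrreducible) {x y : G} {w : ℂ}
    (h : W i ρ x y w) : W i ρ y x w⁻¹ := by
  have hw := h.ne_zero hρ
  obtain ⟨A, B, hA, hB, c, hc, h1⟩ := h
  refine ⟨B, A, hB, hA, c⁻¹, by rw [map_inv, hc, commutatorElement_inv], ?_⟩
  rw [h1, mul_smul_comm, smul_smul, inv_mul_cancel₀ hw, one_smul, ← mul_assoc, ← map_mul,
    inv_mul_cancel, map_one, one_mul]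

theorem W.mul_right [FiniteDimensional ℂ V] {i : N →* G} (hi : Function.Injective i)
    {ρ : Representation ℂ N V} (hρ : ρ.IsIrreducible) {x y y' : G} {w w' : ℂ} (h : W i ρ x y w)
    (h' : W i ρ x y' w') : W i ρ x (y * y') (w * w') := by
  have := ((h.symm hρ).mul_left hi hρ (h'.symm hρ)).symm hρ
  rwa [← mul_inv, inv_inv] at this

theorem W.self {i : N →* G} {ρ : Representation ℂ N V} {x : G}
    {A : (V →ₗ[ℂ] V)ˣ} (hA : Tw i ρ x A) : W i ρ x x 1 :=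
  ⟨A, A, hA, hA, 1, by rw [map_one, commutatorElement_self], by simp⟩

/-- the pairing is trivial on the image of `N` -/
theorem W.of_mem [FiniteDimensional ℂ V] {i : N →* G} (hi : Function.Injective i)
    {ρ : Representation ℂ N V} (a : N) {y : G} {B : (V →ₗ[ℂ] V)ˣ} (hB : Tw i ρ y B) :
    W i ρ (i a) y 1 := by
  obtain ⟨d, hd⟩ := hB.nrm a⁻¹
  refine ⟨un ρ a, B, Tw.of_mem i hi ρ a, hB, a * d, ?_, ?_⟩
  · rw [map_mul, hd, commutatorElement_def, map_inv]; group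
  · have h1 := hB.int a⁻¹ d hd
    rw [un_val, one_smul, map_mul, mul_assoc]
    congr 1
    rw [← mul_assoc, ← h1, mul_assoc, ← map_mul, inv_mul_cancel, map_one, mul_one]

/-- change of the ambient group -/
theorem Tw.comp_iff {G' : Type*} [Group G'] {i : N →* G} {j : G →* G'} (hj : Function.Injective j)
    {ρ : Representation ℂ N V} {x : G} {A : (V →ₗ[ℂ] V)ˣ} :
    Tw (j.comp i) ρ (j x) A ↔ Tw i ρ x A := by
  have e1 : ∀ n n', ((j.comp i) n' = j x * (j.comp i) n * (j x)⁻¹) ↔ i n' = x * i n * x⁻¹ := by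
    intro n n'
    rw [MonoidHom.comp_apply, MonoidHom.comp_apply, ← map_inv, ← map_mul, ← map_mul]
    exact hj.eq_iff
  have e2 : ∀ n n', ((j.comp i) n' = (j x)⁻¹ * (j.comp i) n * (j x)) ↔ i n' = x⁻¹ * i n * x := by
    intro n n'
    rw [MonoidHom.comp_apply, MonoidHom.comp_apply, ← map_inv, ← map_mul, ← map_mul]
    exact hj.eq_iff
  constructor
  · intro h
    refine ⟨fun n => ?_, fun n => ?_, fun n n' hn => h.int n n' ((e1 n n').2 hn)⟩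
    · obtain ⟨n', hn'⟩ := h.nrm n
      exact ⟨n', (e1 n n').1 hn'⟩
    · obtain ⟨n', hn'⟩ := h.nrm' n
      exact ⟨n', (e2 n n').1 hn'⟩
  · intro h
    refine ⟨fun n => ?_, fun n => ?_, fun n n' hn => h.int n n' ((e1 n n').1 hn)⟩
    · obtain ⟨n', hn'⟩ := h.nrm n
      exact ⟨n', (e1 n n').2 hn'⟩
    · obtain ⟨n', hn'⟩ := h.nrm' n
      exact ⟨n', (e2 n n').2 hn'⟩

theorem W.comp_iff {G' : Type*} [Group G'] {i : N →* G} {j : G →* G'} (hj : Function.Injective j)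
    {ρ : Representation ℂ N V} {x y : G} {w : ℂ} :
    W (j.comp i) ρ (j x) (j y) w ↔ W i ρ x y w := by
  unfold W
  simp only [Tw.comp_iff hj]
  have e : ∀ c, (j.comp i) c = ⁅j x, j y⁆ ↔ i c = ⁅x, y⁆ := by
    intro c
    rw [MonoidHom.comp_apply, ← map_commutatorElement]
    exact hj.eq_iff
  simp only [e]

/-- restriction to a smaller group on the same space -/
theorem Tw.restrict {M : Type*} [Group M] {i : N →* G} {m : M →* N} {ρ : Representation ℂ N V}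
    {x : G} {A : (V →ₗ[ℂ] V)ˣ} (h : Tw i ρ x A)
    (h1 : ∀ a, ∃ b, i (m b) = x * i (m a) * x⁻¹) (h2 : ∀ a, ∃ b, i (m b) = x⁻¹ * i (m a) * x) :
    Tw (i.comp m) (ρ.comp m) x A :=
  ⟨h1, h2, fun a b hab => h.int (m a) (m b) hab⟩

theorem W.restrict [FiniteDimensional ℂ V] {M : Type*} [Group M] {i : N →* G} {m : M →* N}
    (hi : Function.Injective i) {ρ : Representation ℂ N V} (hρ : ρ.IsIrreducible) {x y : G} {w : ℂ}
    (h : W i ρ x y w)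
    (h1 : ∀ a, ∃ b, i (m b) = x * i (m a) * x⁻¹) (h2 : ∀ a, ∃ b, i (m b) = x⁻¹ * i (m a) * x)
    (h1' : ∀ a, ∃ b, i (m b) = y * i (m a) * y⁻¹) (h2' : ∀ a, ∃ b, i (m b) = y⁻¹ * i (m a) * y)
    (hc : ∃ c, i (m c) = ⁅x, y⁆) : W (i.comp m) (ρ.comp m) x y w := by
  obtain ⟨A, B, hA, hB, -⟩ := id h
  obtain ⟨c, hc⟩ := hc
  exact ⟨A, B, hA.restrict h1 h2, hB.restrict h1' h2', c, hc, h.eqn hi hρ hA hB hc⟩

end Cfsg.Agent.H676.RM.Pair
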