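import Mathlib
import Cfsg.Agent.CharDeep.ProjExt
import Cfsg.Agent.H676.RM.Pair

/-!
# The pairing and extensions

* `exists_Tw` : intertwiners exist for elements fixing the character.
* `ext_rel` : if `σ` is a representation of `K ≥ N` which is irreducible on `N`, and `x` normalises `N`
  and `K` and fixes the character of `N`, then `x` multiplies the character of `σ` with a linear
  character `c` of `K / N`, and the pairing of `x` and `k ∈ K` is `c(k)⁻¹`.
-/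

set_option autoImplicit false

namespace Cfsg.Agent.H676.RM.Pair

open Module Cfsg.Agent.CharDeep.IrrEquiv Cfsg.Agent.CharDeep.ProjExt
open scoped commutatorElement

variable {N G V : Type*} [Group N] [Group G] [AddCommGroup V] [Module ℂ V]

/-- conjugation by `x` as an endomorphism of `N` -/
theorem exists_conjHom (i : N →* G) (hi : Function.Injective i) (x : G)
    (hx : ∀ n, ∃ n', i n' = x * i n * x⁻¹) :
    ∃ α : N →* N, Function.Injective α ∧ ∀ n, i (α n) = x * i n * x⁻¹ := by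
  choose f hf using hx
  refine ⟨{ toFun := f, map_one' := ?_, map_mul' := ?_ }, ?_, hf⟩
  · apply hi
    rw [hf, map_one]
    group
  · intro a b
    apply hi
    rw [hf, map_mul, map_mul, hf, hf]
    group
  · intro a b hab
    apply hi
    have h1 := hf a
    have h2 := hf b
    have h3 : f a = f b := hab
    rw [h3, h2] at h1
    exact (mul_left_cancel (mul_right_cancel h1)).symm

theorem exists_Tw [Finite N] [FiniteDimensional ℂ V] {i : N →* G} (hi : Function.Injective i)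
    {ρ : Representation ℂ N V} (hρ : ρ.IsIrreducible) (x : G)
    (hx : ∀ n, ∃ n', i n' = x * i n * x⁻¹)
    (hinv : ∀ n n', i n' = x * i n * x⁻¹ → ρ.character n' = ρ.character n) :
    ∃ A : (V →ₗ[ℂ] V)ˣ, Tw i ρ x A := by
  obtain ⟨α, hα, hαi⟩ := exists_conjHom i hi x hx
  have hsurj : Function.Surjective α := Finite.injective_iff_surjective.1 hα
  let σ : Representation ℂ N V := ρ.comp α
  have hchar : ρ.character = σ.character := by
    ext n
    exact (hinv n (α n) (hαi n)).symm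
  obtain ⟨φ⟩ := nonempty_equiv ρ σ hρ hchar
  let T : (V →ₗ[ℂ] V)ˣ := LinearMap.GeneralLinearGroup.ofLinearEquiv φ.toLinearEquiv
  have hT : ∀ n : N, (T : V →ₗ[ℂ] V) * ρ n = ρ (α n) * T := fun n => φ.isIntertwining' n
  refine ⟨T, hx, fun n => ?_, fun n n' hn => ?_⟩
  · obtain ⟨m, rfl⟩ := hsurj n
    refine ⟨m, ?_⟩
    rw [hαi]
    group
  · have : n' = α n := hi (by rw [hn, hαi])
    rw [this, hT]

theorem ext_rel [FiniteDimensional ℂ V] {K : Type*} [Group K] (m : N →* K) (ι : K →* G)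
    (hι : Function.Injective ι) (hn : m.range.Normal) (σ : Representation ℂ K V)
    (hσ : Representation.IsIrreducible (σ.comp m)) {x : G} {A : (V →ₗ[ℂ] V)ˣ}
    (hA : Tw (ι.comp m) (σ.comp m) x A) (hx : ∀ k, ∃ k', ι k' = x * ι k * x⁻¹) :
    ∃ c : K →* ℂˣ, (∀ n, c (m n) = 1) ∧
      (∀ k k', ι k' = x * ι k * x⁻¹ → σ.character k' = (c k : ℂ) * σ.character k) ∧
      ∀ k0, (∃ c0 : N, ι (m c0) = ⁅x, ι k0⁆) →
        W (ι.comp m) (σ.comp m) x (ι k0) ((c k0 : ℂ)⁻¹) := by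
  obtain ⟨α, hα, hαι⟩ := exists_conjHom ι hι x hx
  have hAi : ((A⁻¹ : (V →ₗ[ℂ] V)ˣ) : V →ₗ[ℂ] V) * (A : V →ₗ[ℂ] V) = 1 := A.inv_mul
  have hAi' : (A : V →ₗ[ℂ] V) * ((A⁻¹ : (V →ₗ[ℂ] V)ˣ) : V →ₗ[ℂ] V) = 1 := A.mul_inv
  let R' : Representation ℂ K V :=
    { toFun := fun k => ((A⁻¹ : (V →ₗ[ℂ] V)ˣ) : V →ₗ[ℂ] V) * σ (α k) * (A : V →ₗ[ℂ] V)
      map_one' := by rw [map_one, map_one, mul_one, hAi]
      map_mul' := by
        intro a b
        rw [map_mul, map_mul]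
        calc ((A⁻¹ : (V →ₗ[ℂ] V)ˣ) : V →ₗ[ℂ] V) * (σ (α a) * σ (α b)) * (A : V →ₗ[ℂ] V)
            = ((A⁻¹ : (V →ₗ[ℂ] V)ˣ) : V →ₗ[ℂ] V) * σ (α a) *
              ((A : V →ₗ[ℂ] V) * ((A⁻¹ : (V →ₗ[ℂ] V)ˣ) : V →ₗ[ℂ] V)) * σ (α b) *
                (A : V →ₗ[ℂ] V) := by rw [hAi', mul_one]; simp only [mul_assoc]
          _ = _ := by simp only [mul_assoc] }
  have hR' : ∀ k, R' k = ((A⁻¹ : (V →ₗ[ℂ] V)ˣ) : V →ₗ[ℂ] V) * σ (α k) * (A : V →ₗ[ℂ] V) :=
    fun k => rfl
  -- the restriction to the range of m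
  let ρ0 : Representation ℂ m.range V := σ.comp m.range.subtype
  have hρ0 : ρ0.IsIrreducible := by
    apply Cfsg.Agent.CharDeep.LinearChar.isIrreducible_of_comp m.rangeRestrict
    exact hσ
  have h1 : ∀ n : m.range, σ n = ρ0 n := fun n => rfl
  have h2 : ∀ n : m.range, R' n = ρ0 n := by
    rintro ⟨_, n, rfl⟩
    rw [hR']
    show _ = σ (m n)
    obtain ⟨n', hn'⟩ := hA.nrm n
    have h3 := hA.int n n' hn'
    have h4 : α (m n) = m n' := by
      apply hι
      rw [hαι]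
      exact hn'.symm
    show ((A⁻¹ : (V →ₗ[ℂ] V)ˣ) : V →ₗ[ℂ] V) * σ (α (m n)) * (A : V →ₗ[ℂ] V) = σ (m n)
    have h5 : (A : V →ₗ[ℂ] V) * σ (m n) = σ (m n') * A := h3
    rw [h4, mul_assoc, ← h5, ← mul_assoc, hAi, one_mul]
  obtain ⟨c, hc1, hc2⟩ := exists_hom_of_extensions ρ0 hρ0 σ R' h1 h2
  have h6 : ∀ k k', ι k' = x * ι k * x⁻¹ → k' = α k := by
    intro k k' h
    apply hι
    rw [h, hαι]
  have h7 : ∀ k, (A : V →ₗ[ℂ] V) * σ k = (c k : ℂ)⁻¹ • (σ (α k) * A) := by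
    intro k
    have h8 := hc2 k
    rw [hR'] at h8
    have h9 : σ (α k) * (A : V →ₗ[ℂ] V) = (c k : ℂ) • ((A : V →ₗ[ℂ] V) * σ k) := by
      rw [← mul_smul_comm, ← h8, mul_assoc, ← mul_assoc, hAi', one_mul]
    rw [h9, smul_smul, inv_mul_cancel₀ (c k).ne_zero, one_smul]
  refine ⟨c, fun n => hc1 _ ⟨n, rfl⟩, ?_, ?_⟩
  · intro k k' h
    rw [h6 k k' h]
    have h8 := hc2 k
    rw [hR'] at h8
    have h9 := congrArg (LinearMap.trace ℂ V) h8
    rw [map_smul, smul_eq_mul, mul_assoc, LinearMap.trace_mul_comm, mul_assoc, hAi', mul_one] at h9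
    exact h9
  · rintro k0 ⟨c0, hc0⟩
    have hB : Tw (ι.comp m) (σ.comp m) (ι k0) (un σ k0) := by
      refine ⟨fun n => ?_, fun n => ?_, fun n n' h => ?_⟩
      · obtain ⟨n', hn'⟩ := hn.conj_mem (m n) ⟨n, rfl⟩ k0
        exact ⟨n', by rw [MonoidHom.comp_apply, hn']; simp⟩
      · obtain ⟨n', hn'⟩ := hn.conj_mem (m n) ⟨n, rfl⟩ k0⁻¹
        exact ⟨n', by rw [MonoidHom.comp_apply, hn']; simp⟩
      · have : m n' = k0 * m n * k0⁻¹ := by
          apply hι
          rw [MonoidHom.comp_apply, MonoidHom.comp_apply] at h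
          rw [h]; simp
        show σ k0 * σ (m n) = σ (m n') * σ k0
        rw [this, ← map_mul, ← map_mul]
        congr 1; group
    refine ⟨A, un σ k0, hA, hB, c0, hc0, ?_⟩
    rw [un_val, h7]
    congr 1
    have h8 : α k0 = m c0 * k0 := by
      apply hι
      rw [hαι, map_mul, hc0, commutatorElement_def]
      group
    rw [h8, map_mul, mul_assoc]
    rfl

end Cfsg.Agent.H676.RM.Pair
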