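import Mathlib
import Cfsg.Agent.H676.RM.PairExt

/-!
# Averages over an irreducible representation and over cosets

* `avg`, `avg2` : Schur orthogonality in operator form.
* `sum_comm_coset` : for intertwiners over `x`, `y` with pairing `w`, the sum over `a`, `b` in `N` of
  `conj θ(⁅a x, b y⁆)` is `w |N|² / θ(1)`.
-/

set_option autoImplicit false

namespace Cfsg.Agent.H676.RM.Avg

open Module Cfsg.Agent.CharDeep.IrrEquiv Cfsg.Agent.H676.RM.Pair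
open scoped commutatorElement ComplexConjugate

variable {N G V : Type*} [Group N] [Group G] [AddCommGroup V] [Module ℂ V] [FiniteDimensional ℂ V]

theorem avg [Fintype N] {ρ : Representation ℂ N V} (hρ : ρ.IsIrreducible) (X : V →ₗ[ℂ] V) :
    ∑ b : N, ρ b * X * ρ b⁻¹ =
      ((Nat.card N : ℂ) * (finrank ℂ V : ℂ)⁻¹ * LinearMap.trace ℂ V X) • (1 : V →ₗ[ℂ] V) := by
  classical
  have hV : Nontrivial V := ((Cfsg.Agent.CharDeep.LinearChar.isIrreducible_iff ρ).1 hρ).1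
  have hn : (finrank ℂ V : ℂ) ≠ 0 := by
    exact_mod_cast (finrank_pos (R := ℂ) (M := V)).ne'
  obtain ⟨c, hc⟩ := exists_smul_of_commute ρ hρ (∑ b : N, ρ b * X * ρ b⁻¹) (fun g => by
    rw [Finset.sum_mul, Finset.mul_sum]
    refine Fintype.sum_equiv (Equiv.mulLeft g⁻¹) _ _ fun b => ?_
    rw [Equiv.coe_mulLeft, map_mul, mul_inv_rev, map_mul, inv_inv]
    rw [← mul_assoc, ← mul_assoc, ← mul_assoc, ← mul_assoc, ← map_mul, mul_inv_cancel, map_one,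
      one_mul])
  have h1 := congrArg (LinearMap.trace ℂ V) hc
  rw [map_sum, map_smul, LinearMap.trace_one, smul_eq_mul] at h1
  have h2 : ∀ b : N, LinearMap.trace ℂ V (ρ b * X * ρ b⁻¹) = LinearMap.trace ℂ V X := by
    intro b
    rw [LinearMap.trace_mul_comm, ← mul_assoc, ← map_mul, inv_mul_cancel, map_one, one_mul]
  rw [Finset.sum_congr rfl (fun b _ => h2 b), Finset.sum_const, Finset.card_univ, nsmul_eq_mul,
    ← Nat.card_eq_fintype_card] at h1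
  rw [hc]
  congr 1
  field_simp
  exact h1.symm

theorem avg2 [Fintype N] {ρ : Representation ℂ N V} (hρ : ρ.IsIrreducible) (A B : V →ₗ[ℂ] V) :
    ∑ a : N, LinearMap.trace ℂ V (ρ a * A) * LinearMap.trace ℂ V (B * ρ a⁻¹) =
      (Nat.card N : ℂ) * (finrank ℂ V : ℂ)⁻¹ * LinearMap.trace ℂ V (A * B) := by
  classical
  let b := Module.finBasis ℂ V
  have htr : ∀ P : V →ₗ[ℂ] V, LinearMap.trace ℂ V P = ∑ i, b.repr (P (b i)) i := by
    intro P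
    rw [LinearMap.trace_eq_matrix_trace ℂ b P]
    simp only [Matrix.trace, Matrix.diag, LinearMap.toMatrix_apply]
  let X : Fin (finrank ℂ V) → Fin (finrank ℂ V) → (V →ₗ[ℂ] V) :=
    fun i j => (b.coord j).smulRight (b i)
  have hX : ∀ i j v, X i j v = b.repr v j • b i := fun i j v => rfl
  have h1 : ∀ (a : N) (i j), b.repr ((ρ a * A) (b i)) i * b.repr ((B * ρ a⁻¹) (b j)) j =
      b.repr ((ρ a * (A * X i j * B) * ρ a⁻¹) (b j)) i := by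
    intro a i j
    have : (ρ a * (A * X i j * B) * ρ a⁻¹) (b j) = (ρ a * A) (X i j ((B * ρ a⁻¹) (b j))) := rfl
    rw [this, hX, map_smul, map_smul, Finsupp.smul_apply, smul_eq_mul, mul_comm]
  have h2 : ∀ a : N, LinearMap.trace ℂ V (ρ a * A) * LinearMap.trace ℂ V (B * ρ a⁻¹) =
      ∑ i, ∑ j, b.repr ((ρ a * (A * X i j * B) * ρ a⁻¹) (b j)) i := by
    intro a
    rw [htr, htr, Finset.sum_mul_sum]
    exact Finset.sum_congr rfl fun i _ => Finset.sum_congr rfl fun j _ => h1 a i j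
  rw [Finset.sum_congr rfl (fun a _ => h2 a), Finset.sum_comm]
  have h3 : ∀ i, ∑ a : N, ∑ j, b.repr ((ρ a * (A * X i j * B) * ρ a⁻¹) (b j)) i =
      (Nat.card N : ℂ) * (finrank ℂ V : ℂ)⁻¹ * LinearMap.trace ℂ V (A * X i i * B) := by
    intro i
    rw [Finset.sum_comm, Finset.sum_eq_single i]
    · have h4 : ∑ a : N, b.repr ((ρ a * (A * X i i * B) * ρ a⁻¹) (b i)) i =
          b.repr ((∑ a : N, ρ a * (A * X i i * B) * ρ a⁻¹) (b i)) i := by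
        rw [LinearMap.sum_apply, map_sum, Finsupp.finsetSum_apply]
      rw [h4, avg hρ]
      simp
    · intro j _ hj
      have h4 : ∑ a : N, b.repr ((ρ a * (A * X i j * B) * ρ a⁻¹) (b j)) i =
          b.repr ((∑ a : N, ρ a * (A * X i j * B) * ρ a⁻¹) (b j)) i := by
        rw [LinearMap.sum_apply, map_sum, Finsupp.finsetSum_apply]
      rw [h4, avg hρ]
      simp [hj]
    · intro h; exact absurd (Finset.mem_univ _) h
  rw [Finset.sum_congr rfl (fun i _ => h3 i), ← Finset.mul_sum]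
  congr 1
  have h5 : ∑ i, X i i = (1 : V →ₗ[ℂ] V) := by
    ext v
    rw [LinearMap.sum_apply]
    simp only [hX]
    exact b.sum_repr v
  rw [← map_sum]
  congr 1
  rw [← Finset.sum_mul, ← Finset.mul_sum, h5, mul_one]

/-- The sum over two cosets of the conjugate character values at the commutators. -/
theorem sum_comm_coset [Fintype N] {i : N →* G} (hi : Function.Injective i)
    {ρ : Representation ℂ N V} (hρ : ρ.IsIrreducible) {x y : G} {w : ℂ} (h : W i ρ x y w)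
    (C : N → N → N) (hC : ∀ a b, i (C a b) = ⁅i a * x, i b * y⁆) :
    (∑ a : N, ∑ b : N, ρ.character (C a b)⁻¹) * ρ.character 1 = w * (Nat.card N : ℂ) ^ 2 := by
  classical
  have hV : Nontrivial V := ((Cfsg.Agent.CharDeep.LinearChar.isIrreducible_iff ρ).1 hρ).1
  have hn : (finrank ℂ V : ℂ) ≠ 0 := by
    exact_mod_cast (finrank_pos (R := ℂ) (M := V)).ne'
  obtain ⟨A, B, hA, hB, -⟩ := id h
  have hAi : ((A⁻¹ : (V →ₗ[ℂ] V)ˣ) : V →ₗ[ℂ] V) * (A : V →ₗ[ℂ] V) = 1 := A.inv_mul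
  have hAi' : (A : V →ₗ[ℂ] V) * ((A⁻¹ : (V →ₗ[ℂ] V)ˣ) : V →ₗ[ℂ] V) = 1 := A.mul_inv
  have hBi : ((B⁻¹ : (V →ₗ[ℂ] V)ˣ) : V →ₗ[ℂ] V) * (B : V →ₗ[ℂ] V) = 1 := B.inv_mul
  have hBi' : (B : V →ₗ[ℂ] V) * ((B⁻¹ : (V →ₗ[ℂ] V)ˣ) : V →ₗ[ℂ] V) = 1 := B.mul_inv
  have hρi : ∀ a, ρ a * ρ a⁻¹ = 1 := fun a => by rw [← map_mul, mul_inv_cancel, map_one]
  have hρi' : ∀ a, ρ a⁻¹ * ρ a = 1 := fun a => by rw [← map_mul, inv_mul_cancel, map_one]
  have hw0 := h.ne_zero hρ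
  -- the operators over `i a * x` and `i b * y`
  have key : ∀ a b : N, ρ.character (C a b)⁻¹ = w * LinearMap.trace ℂ V
      (ρ b * ((B : V →ₗ[ℂ] V) * (ρ a * (A : V →ₗ[ℂ] V)) * ((B⁻¹ : (V →ₗ[ℂ] V)ˣ) : V →ₗ[ℂ] V)) *
        ρ b⁻¹ * (((A⁻¹ : (V →ₗ[ℂ] V)ˣ) : V →ₗ[ℂ] V) * ρ a⁻¹)) := by
    intro a b
    have hA' : Tw i ρ (i a * x) (un ρ a * A) := (Tw.of_mem i hi ρ a).mul hA
    have hB' : Tw i ρ (i b * y) (un ρ b * B) := (Tw.of_mem i hi ρ b).mul hB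
    have hW1 : W i ρ (i a * x) y w := by
      have := (W.of_mem hi a hB).mul_left hi hρ h
      rwa [one_mul] at this
    have hW2 : W i ρ (i a * x) (i b * y) w := by
      have h1 : W i ρ (i a * x) (i b) 1 := by
        have := (W.of_mem (ρ := ρ) hi b hA').symm hρ
        rwa [inv_one] at this
      have := h1.mul_right hi hρ hW1
      rwa [one_mul] at this
    have h2 := hW2.eqn hi hρ hA' hB' (hC a b)
    rw [Units.val_mul, Units.val_mul, un_val, un_val] at h2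
    -- ρ(c⁻¹) = w • B' A' B'⁻¹ A'⁻¹
    have h3 : ρ (C a b)⁻¹ = w • (ρ b * (B : V →ₗ[ℂ] V) * (ρ a * (A : V →ₗ[ℂ] V)) *
        (((B⁻¹ : (V →ₗ[ℂ] V)ˣ) : V →ₗ[ℂ] V) * ρ b⁻¹) *
        (((A⁻¹ : (V →ₗ[ℂ] V)ˣ) : V →ₗ[ℂ] V) * ρ a⁻¹)) := by
      have h4 : ρ (C a b)⁻¹ * (ρ a * (A : V →ₗ[ℂ] V) * (ρ b * (B : V →ₗ[ℂ] V))) =
          w • (ρ b * (B : V →ₗ[ℂ] V) * (ρ a * (A : V →ₗ[ℂ] V))) := by
        rw [h2, mul_smul_comm, ← mul_assoc, hρi', one_mul]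
      have h5 : (ρ a * (A : V →ₗ[ℂ] V) * (ρ b * (B : V →ₗ[ℂ] V))) *
          ((((B⁻¹ : (V →ₗ[ℂ] V)ˣ) : V →ₗ[ℂ] V) * ρ b⁻¹) *
          (((A⁻¹ : (V →ₗ[ℂ] V)ˣ) : V →ₗ[ℂ] V) * ρ a⁻¹)) = 1 := by
        calc _ = ρ a * (A : V →ₗ[ℂ] V) * (ρ b * ((B : V →ₗ[ℂ] V) *
              ((B⁻¹ : (V →ₗ[ℂ] V)ˣ) : V →ₗ[ℂ] V)) * ρ b⁻¹) *
              (((A⁻¹ : (V →ₗ[ℂ] V)ˣ) : V →ₗ[ℂ] V) * ρ a⁻¹) := by simp only [mul_assoc]
          _ = ρ a * ((A : V →ₗ[ℂ] V) * ((A⁻¹ : (V →ₗ[ℂ] V)ˣ) : V →ₗ[ℂ] V)) * ρ a⁻¹ := by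
              rw [hBi', mul_one, hρi, mul_one]; simp only [mul_assoc]
          _ = 1 := by rw [hAi', mul_one, hρi]
      calc ρ (C a b)⁻¹ = ρ (C a b)⁻¹ * ((ρ a * (A : V →ₗ[ℂ] V) * (ρ b * (B : V →ₗ[ℂ] V))) *
          ((((B⁻¹ : (V →ₗ[ℂ] V)ˣ) : V →ₗ[ℂ] V) * ρ b⁻¹) *
          (((A⁻¹ : (V →ₗ[ℂ] V)ˣ) : V →ₗ[ℂ] V) * ρ a⁻¹))) := by rw [h5, mul_one]
        _ = _ := by rw [← mul_assoc, h4, smul_mul_assoc, ← mul_assoc]
    show LinearMap.trace ℂ V (ρ (C a b)⁻¹) = _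
    rw [h3, map_smul, smul_eq_mul]
    congr 2
  have h6 : ∀ a : N, ∑ b : N, ρ.character (C a b)⁻¹ = w * ((Nat.card N : ℂ) *
      (finrank ℂ V : ℂ)⁻¹ * (LinearMap.trace ℂ V (ρ a * (A : V →ₗ[ℂ] V)) *
      LinearMap.trace ℂ V (((A⁻¹ : (V →ₗ[ℂ] V)ˣ) : V →ₗ[ℂ] V) * ρ a⁻¹))) := by
    intro a
    rw [Finset.sum_congr rfl (fun b _ => key a b), ← Finset.mul_sum, ← map_sum, ← Finset.sum_mul,
      avg hρ, smul_mul_assoc, one_mul, map_smul, smul_eq_mul]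
    congr 1
    have : LinearMap.trace ℂ V ((B : V →ₗ[ℂ] V) * (ρ a * (A : V →ₗ[ℂ] V)) *
        ((B⁻¹ : (V →ₗ[ℂ] V)ˣ) : V →ₗ[ℂ] V)) = LinearMap.trace ℂ V (ρ a * (A : V →ₗ[ℂ] V)) := by
      rw [LinearMap.trace_mul_comm, ← mul_assoc, hBi, one_mul]
    rw [this]
    ring
  rw [Finset.sum_congr rfl (fun a _ => h6 a), ← Finset.mul_sum, ← Finset.mul_sum, avg2 hρ, hAi',
    LinearMap.trace_one]
  have h7 : ρ.character 1 = (finrank ℂ V : ℂ) := Representation.char_one ρ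
  rw [h7]
  field_simp

end Cfsg.Agent.H676.RM.Avg
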