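import Mathlib
import Cfsg.Agent.S4856
import Cfsg.Agent.H672.Ext
import Cfsg.Agent.H676.RM.Avg

/-!
# Counting the irreducible characters over an invariant character

`card_over` : `#Irr(G | θ) |G| |N| = θ(1) ∑_{n ∈ N} conj θ(n) #{(x, y) : [x, y] = n}`.
`count` : if `G = N H`, then `#Irr(G | θ) |H| |H ∩ N| = ∑_{h, h' ∈ H} Om(h, h')`, with `Om` the pairing
(`0` when `[h, h'] ∉ N`).
-/

set_option autoImplicit false
set_option linter.style.haveILetI false

namespace Cfsg.Agent.H676.RM.Count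

open Cfsg Module Cfsg.Agent.CharDeep.IrrEquiv Cfsg.Agent.H676.RM.Pair Cfsg.Agent.H676.RM.Avg
open Cfsg.Agent.Characters.Core Cfsg.Agent.H672
open scoped commutatorElement ComplexConjugate

variable {N G : Type*} [Group N] [Group G]

/-- the number of irreducible characters over an invariant character through commutators -/
theorem card_over [Finite G] [Fintype N] (i : N →* G) (hi : Function.Injective i)
    (hn : i.range.Normal) (θ : N → ℂ) (hθ : IsIrrCharacter N θ)
    (hinv : ∀ (g : G) (n n' : N), i n' = g * i n * g⁻¹ → θ n' = θ n) :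
    (Nat.card {χ : IrrCharacter G // Over i (χ : G → ℂ) θ} : ℂ) * ((Nat.card G : ℂ) * Nat.card N)
      = θ 1 * ∑ n : N, conj (θ n) *
        (Nat.card {xy : G × G // xy.1 * xy.2 * xy.1⁻¹ * xy.2⁻¹ = i n} : ℂ) := by
  classical
  have : Finite (IrrCharacter G) := finite_irr
  have := Fintype.ofFinite (IrrCharacter G)
  have hN0 : (Nat.card N : ℂ) ≠ 0 := by exact_mod_cast Nat.card_pos.ne'
  have h1 : ∀ n : N, (Nat.card {xy : G × G // xy.1 * xy.2 * xy.1⁻¹ * xy.2⁻¹ = i n} : ℂ) =
      (Nat.card G : ℂ) * ∑ χ : IrrCharacter G, (χ : G → ℂ) (i n) / (χ : G → ℂ) 1 := by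
    intro n
    rw [Cfsg.Agent.S4856.result, finsum_eq_sum_of_fintype]
  have h2 : ∑ n : N, conj (θ n) *
        (Nat.card {xy : G × G // xy.1 * xy.2 * xy.1⁻¹ * xy.2⁻¹ = i n} : ℂ) =
      (Nat.card G : ℂ) * ∑ χ : IrrCharacter G, ((Nat.card N : ℂ) *
        classInner ((χ : G → ℂ) ∘ i) θ / (χ : G → ℂ) 1) := by
    rw [Finset.sum_congr rfl (fun n _ => by rw [h1])]
    rw [Finset.mul_sum]
    have h3 : ∀ n : N, conj (θ n) * ((Nat.card G : ℂ) *
        ∑ χ : IrrCharacter G, (χ : G → ℂ) (i n) / (χ : G → ℂ) 1) =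
        ∑ χ : IrrCharacter G, (Nat.card G : ℂ) *
          ((χ : G → ℂ) (i n) * conj (θ n) / (χ : G → ℂ) 1) := by
      intro n
      rw [Finset.mul_sum, Finset.mul_sum]
      refine Finset.sum_congr rfl fun χ _ => ?_
      ring
    rw [Finset.sum_congr rfl (fun n _ => h3 n), Finset.sum_comm]
    refine Finset.sum_congr rfl fun χ _ => ?_
    rw [← Finset.mul_sum, classInner_def, mul_inv_cancel_left₀ hN0, ← Finset.sum_div]
    rfl
  have h4 : ∀ χ : IrrCharacter G, θ 1 * ((Nat.card N : ℂ) *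
        classInner ((χ : G → ℂ) ∘ i) θ / (χ : G → ℂ) 1) =
      if Over i (χ : G → ℂ) θ then (Nat.card N : ℂ) else 0 := by
    intro χ
    by_cases hO : Over i (χ : G → ℂ) θ
    · rw [if_pos hO]
      have h5 := comp_eq_smul_of_invariant_hom i hi hn χ.2 hθ hinv ((over_iff _ _ _).1 hO)
      have h6 := congrFun h5 1
      rw [Function.comp_apply, map_one, Pi.smul_apply, smul_eq_mul] at h6
      have h7 := isIrr_apply_one_ne_zero χ.2
      have h8 : θ 1 * classInner ((χ : G → ℂ) ∘ i) θ = (χ : G → ℂ) 1 := by rw [h6, mul_comm]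
      rw [← mul_div_assoc, div_eq_iff h7]
      linear_combination (Nat.card N : ℂ) * h8
    · rw [if_neg hO]
      have h5 : classInner ((χ : G → ℂ) ∘ i) θ = 0 := by
        by_contra hne
        exact hO ((over_iff _ _ _).2 hne)
      rw [h5]; simp
  have h9 : (Nat.card {χ : IrrCharacter G // Over i (χ : G → ℂ) θ} : ℂ) * (Nat.card N : ℂ) =
      ∑ χ : IrrCharacter G, (if Over i (χ : G → ℂ) θ then (Nat.card N : ℂ) else 0) := by
    rw [← Finset.sum_filter, Finset.sum_const, nsmul_eq_mul, Nat.card_eq_fintype_card,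
      Fintype.card_subtype]
  rw [h2, mul_left_comm (θ 1), Finset.mul_sum, Finset.sum_congr rfl (fun χ _ => h4 χ), ← h9]
  ring

/-- sums over cosets -/
theorem sum_coset {H : Type*} [Group H] [Fintype G] [Fintype N] [Fintype H] (i : N →* G)
    (hi : Function.Injective i) (j : H →* G) (hj : Function.Injective j)
    (hG : ∀ g : G, ∃ (a : N) (h : H), g = i a * j h) (F : G → ℂ) :
    (Nat.card {h : H // j h ∈ i.range} : ℂ) * ∑ g : G, F g =
      ∑ h : H, ∑ a : N, F (i a * j h) := by
  classical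
  have h1 : ∀ g : G, (Finset.univ.filter (fun z : H × N => i z.2 * j z.1 = g)).card =
      Nat.card {h : H // j h ∈ i.range} := by
    intro g
    obtain ⟨a0, h0, hg⟩ := hG g
    rw [← Fintype.card_subtype, ← Nat.card_eq_fintype_card]
    have hmem : ∀ z : {z : H × N // i z.2 * j z.1 = g}, j (z.1.1 * h0⁻¹) ∈ i.range := by
      intro z
      refine ⟨z.1.2⁻¹ * a0, ?_⟩
      have h2 : i z.1.2 * j z.1.1 = i a0 * j h0 := z.2.trans hg
      rw [map_mul, map_mul, map_inv, map_inv, eq_mul_inv_iff_mul_eq, mul_assoc, ← h2,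
        inv_mul_cancel_left]
    refine Nat.card_eq_of_bijective (fun z => (⟨z.1.1 * h0⁻¹, hmem z⟩ : {h : H // j h ∈ i.range}))
      ⟨?_, ?_⟩
    · rintro ⟨⟨h, a⟩, hz⟩ ⟨⟨h', a'⟩, hz'⟩ heq
      have h3 : h = h' := mul_right_cancel (congrArg Subtype.val heq)
      subst h3
      have h4 : i a * j h = i a' * j h := hz.trans hz'.symm
      have h5 : a = a' := hi (mul_right_cancel h4)
      subst h5
      rfl
    · rintro ⟨h, a, ha⟩
      refine ⟨⟨(h * h0, a0 * a⁻¹), ?_⟩, ?_⟩
      · show i (a0 * a⁻¹) * j (h * h0) = g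
        rw [map_mul, map_mul, map_inv, ha, hg]
        group
      · apply Subtype.ext
        show h * h0 * h0⁻¹ = h
        group
  rw [← Finset.sum_product' Finset.univ Finset.univ (fun (h : H) (a : N) => F (i a * j h)),
    Finset.mul_sum]
  rw [← Finset.sum_fiberwise (s := (Finset.univ ×ˢ Finset.univ : Finset (H × N)))
    (g := fun z : H × N => i z.2 * j z.1)]
  refine Finset.sum_congr rfl fun g _ => ?_
  rw [Finset.sum_congr rfl (g := fun _ => F g) (fun z hz => by
    rw [(Finset.mem_filter.1 hz).2]), Finset.sum_const, nsmul_eq_mul]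
  congr 2
  rw [← h1 g]
  congr 1

variable {V : Type*} [AddCommGroup V] [Module ℂ V]

open Classical in
/-- the value of the pairing, `0` where it is not defined -/
noncomputable def Om (i : N →* G) (ρ : Representation ℂ N V) (x y : G) : ℂ :=
  if h : ∃ w, W i ρ x y w then h.choose else 0

theorem Om_of_W [FiniteDimensional ℂ V] {i : N →* G} (hi : Function.Injective i)
    {ρ : Representation ℂ N V} (hρ : ρ.IsIrreducible) {x y : G} {w : ℂ} (h : W i ρ x y w) :
    Om i ρ x y = w := by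
  have h1 : ∃ w, W i ρ x y w := ⟨w, h⟩
  rw [Om, dif_pos h1]
  exact h1.choose_spec.unique hi hρ h

theorem Om_of_not {i : N →* G} {ρ : Representation ℂ N V} {x y : G}
    (h : ⁅x, y⁆ ∉ i.range) : Om i ρ x y = 0 := by
  rw [Om, dif_neg]
  rintro ⟨w, A, B, -, -, c, hc, -⟩
  exact h ⟨c, hc⟩

/-- **The counting formula.** -/
theorem count [FiniteDimensional ℂ V] {H : Type*} [Group H] [Finite G] [Fintype N] [Fintype H]
    (i : N →* G) (hi : Function.Injective i) (hn : i.range.Normal)
    (ρ : Representation ℂ N V) (hρ : ρ.IsIrreducible)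
    (hinv : ∀ (g : G) (n n' : N), i n' = g * i n * g⁻¹ → ρ.character n' = ρ.character n)
    (j : H →* G) (hj : Function.Injective j) (hG : ∀ g : G, ∃ (a : N) (h : H), g = i a * j h) :
    (Nat.card {χ : IrrCharacter G // Over i (χ : G → ℂ) ρ.character} : ℂ) *
      ((Nat.card H : ℂ) * Nat.card {h : H // j h ∈ i.range}) =
      ∑ h : H, ∑ h' : H, Om i ρ (j h) (j h') := by
  classical
  have := Fintype.ofFinite G
  have hN0 : (Nat.card N : ℂ) ≠ 0 := by exact_mod_cast Nat.card_pos.ne'
  have hG0 : (Nat.card G : ℂ) ≠ 0 := by exact_mod_cast Nat.card_pos.ne'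
  have hD0 : (Nat.card {h : H // j h ∈ i.range} : ℂ) ≠ 0 := by
    have : Nonempty {h : H // j h ∈ i.range} := ⟨⟨1, by rw [map_one]; exact one_mem _⟩⟩
    exact_mod_cast Nat.card_pos.ne'
  have hθ : IsIrrCharacter N ρ.character := isIrrCharacter_of_rep ρ hρ
  have hcard : (Nat.card {h : H // j h ∈ i.range} : ℂ) * Nat.card G = Nat.card H * Nat.card N := by
    have h1 := sum_coset i hi j hj hG (fun _ => 1)
    simp only [Finset.sum_const, Finset.card_univ, nsmul_eq_mul, mul_one] at h1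
    rw [← Nat.card_eq_fintype_card, ← Nat.card_eq_fintype_card, ← Nat.card_eq_fintype_card] at h1
    exact h1
  have h0 := card_over i hi hn ρ.character hθ hinv
  -- the function E
  let E : G → ℂ := fun z => ∑ n : N, if i n = z then ρ.character n⁻¹ else 0
  have hE : ∀ (z : G) (n : N), i n = z → E z = ρ.character n⁻¹ := by
    intro z n hz
    show ∑ m : N, (if i m = z then ρ.character m⁻¹ else 0) = _
    rw [Finset.sum_eq_single n, if_pos hz]
    · intro m _ hm
      rw [if_neg]
      intro h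
      exact hm (hi (h.trans hz.symm))
    · intro h; exact absurd (Finset.mem_univ _) h
  have hE0 : ∀ z : G, z ∉ i.range → E z = 0 := by
    intro z hz
    show ∑ m : N, (if i m = z then ρ.character m⁻¹ else 0) = _
    refine Finset.sum_eq_zero fun m _ => ?_
    rw [if_neg]
    intro h
    exact hz ⟨m, h⟩
  have h1 : ∑ n : N, conj (ρ.character n) *
        (Nat.card {xy : G × G // xy.1 * xy.2 * xy.1⁻¹ * xy.2⁻¹ = i n} : ℂ) =
      ∑ x : G, ∑ y : G, E ⁅x, y⁆ := by
    have h2 : ∀ n : N, conj (ρ.character n) *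
        (Nat.card {xy : G × G // xy.1 * xy.2 * xy.1⁻¹ * xy.2⁻¹ = i n} : ℂ) =
        ∑ x : G, ∑ y : G, if i n = ⁅x, y⁆ then ρ.character n⁻¹ else 0 := by
      intro n
      rw [← Finset.sum_product', ← Finset.sum_filter, Finset.sum_const, nsmul_eq_mul,
        isCharacter_apply_inv (isIrr_isCharacter hθ), mul_comm]
      congr 2
      rw [Nat.card_eq_fintype_card, Fintype.card_subtype]
      congr 1
      ext z
      simp only [Finset.mem_filter, Finset.mem_univ, true_and, Finset.mem_product]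
      exact eq_comm
    rw [Finset.sum_congr rfl (fun n _ => h2 n), Finset.sum_comm]
    refine Finset.sum_congr rfl fun x _ => ?_
    rw [Finset.sum_comm]
  rw [h1] at h0
  -- sum over cosets
  have h3 : (Nat.card {h : H // j h ∈ i.range} : ℂ) ^ 2 * ∑ x : G, ∑ y : G, E ⁅x, y⁆ =
      ∑ h : H, ∑ h' : H, ∑ a : N, ∑ b : N, E ⁅i a * j h, i b * j h'⁆ := by
    have h4 : ∀ x : G, (Nat.card {h : H // j h ∈ i.range} : ℂ) * ∑ y : G, E ⁅x, y⁆ =
        ∑ h' : H, ∑ b : N, E ⁅x, i b * j h'⁆ :=
      fun x => sum_coset i hi j hj hG (fun y => E ⁅x, y⁆)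
    rw [sq, mul_assoc, Finset.mul_sum, Finset.sum_congr rfl (fun x _ => h4 x),
      sum_coset i hi j hj hG (fun x => ∑ h' : H, ∑ b : N, E ⁅x, i b * j h'⁆)]
    refine Finset.sum_congr rfl fun h _ => ?_
    rw [Finset.sum_comm]
  have h5 : ∀ h h' : H, ρ.character 1 * ∑ a : N, ∑ b : N, E ⁅i a * j h, i b * j h'⁆ =
      Om i ρ (j h) (j h') * (Nat.card N : ℂ) ^ 2 := by
    intro h h'
    by_cases hc : ⁅j h, j h'⁆ ∈ i.range
    · obtain ⟨c, hc⟩ := hc
      obtain ⟨A, hA⟩ := exists_Tw hi hρ (j h) (fun n => hn.conj_mem (i n) ⟨n, rfl⟩ (j h))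
        (hinv (j h))
      obtain ⟨B, hB⟩ := exists_Tw hi hρ (j h') (fun n => hn.conj_mem (i n) ⟨n, rfl⟩ (j h'))
        (hinv (j h'))
      obtain ⟨w, hw⟩ := exists_W hi hρ hA hB hc
      rw [Om_of_W hi hρ hw]
      have hC : ∀ a b : N, ∃ c : N, i c = ⁅i a * j h, i b * j h'⁆ := by
        intro a b
        have e1 : (QuotientGroup.mk' i.range) ⁅i a * j h, i b * j h'⁆ = 1 := by
          rw [map_commutatorElement, map_mul, map_mul]
          have e2 : ∀ a, (QuotientGroup.mk' i.range) (i a) = 1 := fun a => by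
            rw [← MonoidHom.mem_ker, QuotientGroup.ker_mk']; exact ⟨a, rfl⟩
          rw [e2, e2, one_mul, one_mul, ← map_commutatorElement, ← hc, e2]
        rw [← MonoidHom.mem_ker, QuotientGroup.ker_mk'] at e1
        exact e1
      choose C hC using hC
      have h6 := sum_comm_coset hi hρ hw C hC
      rw [← h6, mul_comm]
      congr 1
      refine Finset.sum_congr rfl fun a _ => Finset.sum_congr rfl fun b _ => ?_
      exact hE _ _ (hC a b)
    · rw [Om_of_not hc, zero_mul]
      rw [Finset.sum_eq_zero, mul_zero]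
      intro a _
      refine Finset.sum_eq_zero fun b _ => hE0 _ ?_
      intro hc'
      apply hc
      have e1 : (QuotientGroup.mk' i.range) ⁅i a * j h, i b * j h'⁆ = 1 := by
        rw [← MonoidHom.mem_ker, QuotientGroup.ker_mk']; exact hc'
      rw [map_commutatorElement, map_mul, map_mul] at e1
      have e2 : ∀ a, (QuotientGroup.mk' i.range) (i a) = 1 := fun a => by
        rw [← MonoidHom.mem_ker, QuotientGroup.ker_mk']; exact ⟨a, rfl⟩
      rw [e2, e2, one_mul, one_mul, ← map_commutatorElement, ← MonoidHom.mem_ker,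
        QuotientGroup.ker_mk'] at e1
      exact e1
  have h7 : ρ.character 1 * ∑ h : H, ∑ h' : H, ∑ a : N, ∑ b : N, E ⁅i a * j h, i b * j h'⁆ =
      (∑ h : H, ∑ h' : H, Om i ρ (j h) (j h')) * (Nat.card N : ℂ) ^ 2 := by
    rw [Finset.mul_sum, Finset.sum_mul]
    refine Finset.sum_congr rfl fun h _ => ?_
    rw [Finset.mul_sum, Finset.sum_mul]
    exact Finset.sum_congr rfl fun h' _ => h5 h h'
  rw [← h3] at h7
  -- final computation
  have h8 : (Nat.card {χ : IrrCharacter G // Over i (χ : G → ℂ) ρ.character} : ℂ) *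
      ((Nat.card G : ℂ) * Nat.card N) * (Nat.card {h : H // j h ∈ i.range} : ℂ) ^ 2 =
      (∑ h : H, ∑ h' : H, Om i ρ (j h) (j h')) * (Nat.card N : ℂ) ^ 2 := by
    rw [h0, ← h7]; ring
  have h9 : ((Nat.card {χ : IrrCharacter G // Over i (χ : G → ℂ) ρ.character} : ℂ) *
      ((Nat.card H : ℂ) * Nat.card {h : H // j h ∈ i.range})) * (Nat.card N : ℂ) ^ 2 =
      (∑ h : H, ∑ h' : H, Om i ρ (j h) (j h')) * (Nat.card N : ℂ) ^ 2 := by
    rw [← h8]
    linear_combination (-(Nat.card {χ : IrrCharacter G // Over i (χ : G → ℂ) ρ.character} : ℂ) *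
      (Nat.card N : ℂ) * (Nat.card {h : H // j h ∈ i.range} : ℂ)) * hcard
  exact mul_right_cancel₀ (pow_ne_zero 2 hN0) h9

end Cfsg.Agent.H676.RM.Count
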