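import Mathlib
import Cfsg.Agent.H676.RM.Count

/-!
# The pairing in terms of characters

`WC i θ x y w` : the pairing `W` for a representation affording the irreducible character `θ`.
-/

set_option autoImplicit false
set_option linter.style.haveILetI false

namespace Cfsg.Agent.H676.RM.PairChar

open Cfsg Module Cfsg.Agent.CharDeep.IrrEquiv Cfsg.Agent.H676.RM.Pair Cfsg.Agent.H676.RM.Count
open Cfsg.Agent.Characters.Core Cfsg.Agent.H672
open scoped commutatorElement ComplexConjugate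

variable {N G : Type*} [Group N] [Group G]

section congr
variable {V V' : Type*} [AddCommGroup V] [Module ℂ V] [AddCommGroup V'] [Module ℂ V']

theorem Tw.congr {i : N →* G} {ρ : Representation ℂ N V} {ρ' : Representation ℂ N V'}
    (φ : Representation.Equiv ρ ρ') {x : G} {A : (V →ₗ[ℂ] V)ˣ} (hA : Tw i ρ x A) :
    Tw i ρ' x (Units.map (φ.toLinearEquiv.conjAlgEquiv ℂ).toAlgHom.toMonoidHom A) := by
  have hc : ∀ n, (φ.toLinearEquiv.conjAlgEquiv ℂ) (ρ n) = ρ' n := fun n => φ.conj_apply_self n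
  refine ⟨hA.nrm, hA.nrm', fun n n' h => ?_⟩
  have h1 := hA.int n n' h
  have h2 := congrArg (φ.toLinearEquiv.conjAlgEquiv ℂ) h1
  rw [map_mul, map_mul, hc, hc] at h2
  exact h2

theorem W.congr [Finite N] [FiniteDimensional ℂ V] [FiniteDimensional ℂ V'] {i : N →* G}
    {ρ : Representation ℂ N V} {ρ' : Representation ℂ N V'} (hρ : ρ.IsIrreducible)
    (h : ρ.character = ρ'.character) {x y : G} {w : ℂ} (hW : W i ρ x y w) : W i ρ' x y w := by
  obtain ⟨φ⟩ := nonempty_equiv ρ ρ' hρ h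
  obtain ⟨A, B, hA, hB, c, hc, h1⟩ := hW
  have hcc : ∀ n, (φ.toLinearEquiv.conjAlgEquiv ℂ) (ρ n) = ρ' n := fun n => φ.conj_apply_self n
  refine ⟨_, _, Tw.congr φ hA, Tw.congr φ hB, c, hc, ?_⟩
  have h2 := congrArg (φ.toLinearEquiv.conjAlgEquiv ℂ) h1
  rw [map_mul, map_smul, map_mul, map_mul, hcc] at h2
  exact h2

end congr

/-- the pairing for an irreducible character -/
def WC (i : N →* G) (θ : N → ℂ) (x y : G) (w : ℂ) : Prop :=
  ∃ (n : ℕ) (ρ : Representation ℂ N (Fin n → ℂ)), ρ.IsIrreducible ∧ ρ.character = θ ∧ W i ρ x y w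

/-- transport to a representation affording the character -/
theorem WC.toW [Finite N] {V : Type*} [AddCommGroup V] [Module ℂ V] [FiniteDimensional ℂ V]
    {i : N →* G} {θ : N → ℂ} {x y : G} {w : ℂ} (h : WC i θ x y w)
    {ρ : Representation ℂ N V} (hθ : ρ.character = θ) : W i ρ x y w := by
  obtain ⟨n, ρ', hρ', hθ', hW⟩ := h
  exact W.congr hρ' (hθ'.trans hθ.symm) hW

theorem WC.of_W [Finite N] {V : Type*} [AddCommGroup V] [Module ℂ V] [FiniteDimensional ℂ V]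
    {i : N →* G} {θ : N → ℂ} {x y : G} {w : ℂ} {ρ : Representation ℂ N V}
    (hρ : ρ.IsIrreducible) (hθ : ρ.character = θ) (h : W i ρ x y w) : WC i θ x y w := by
  obtain ⟨n, ρ', hρ', hθ'⟩ := (isIrrCharacter_of_rep ρ hρ : IsIrrCharacter N ρ.character)
  exact ⟨n, ρ', hρ', hθ'.trans hθ, W.congr hρ hθ'.symm h⟩

theorem WC.irr {i : N →* G} {θ : N → ℂ} {x y : G} {w : ℂ} (h : WC i θ x y w) :
    IsIrrCharacter N θ := by
  obtain ⟨n, ρ', hρ', hθ', -⟩ := h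
  exact ⟨n, ρ', hρ', hθ'⟩

variable [Finite N]

theorem WC.unique {i : N →* G} (hi : Function.Injective i) {θ : N → ℂ} {x y : G} {w w' : ℂ}
    (h : WC i θ x y w) (h' : WC i θ x y w') : w = w' := by
  obtain ⟨n, ρ, hρ, hθ, hW⟩ := h
  exact hW.unique hi hρ (h'.toW hθ)

omit [Finite N] in
theorem WC.ne_zero {i : N →* G} {θ : N → ℂ} {x y : G} {w : ℂ}
    (h : WC i θ x y w) : w ≠ 0 := by
  obtain ⟨n, ρ, hρ, hθ, hW⟩ := h
  exact hW.ne_zero hρ

theorem WC.mul_left {i : N →* G} (hi : Function.Injective i) {θ : N → ℂ} {x x' y : G} {w w' : ℂ}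
    (h : WC i θ x y w) (h' : WC i θ x' y w') : WC i θ (x * x') y (w * w') := by
  obtain ⟨n, ρ, hρ, hθ, hW⟩ := h
  exact ⟨n, ρ, hρ, hθ, hW.mul_left hi hρ (h'.toW hθ)⟩

theorem WC.mul_right {i : N →* G} (hi : Function.Injective i) {θ : N → ℂ} {x y y' : G} {w w' : ℂ}
    (h : WC i θ x y w) (h' : WC i θ x y' w') : WC i θ x (y * y') (w * w') := by
  obtain ⟨n, ρ, hρ, hθ, hW⟩ := h
  exact ⟨n, ρ, hρ, hθ, hW.mul_right hi hρ (h'.toW hθ)⟩

omit [Finite N] in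
theorem WC.symm {i : N →* G} {θ : N → ℂ} {x y : G} {w : ℂ}
    (h : WC i θ x y w) : WC i θ y x w⁻¹ := by
  obtain ⟨n, ρ, hρ, hθ, hW⟩ := h
  exact ⟨n, ρ, hρ, hθ, hW.symm hρ⟩

omit [Finite N] in
theorem WC.comp_iff {G' : Type*} [Group G'] {i : N →* G} {j : G →* G'} (hj : Function.Injective j)
    {θ : N → ℂ} {x y : G} {w : ℂ} : WC (j.comp i) θ (j x) (j y) w ↔ WC i θ x y w := by
  unfold WC
  simp only [W.comp_iff hj]

/-- `x` normalises `N` and fixes `θ` -/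
structure Fix (i : N →* G) (θ : N → ℂ) (x : G) : Prop where
  nrm : ∀ n, ∃ n', i n' = x * i n * x⁻¹
  inv : ∀ n n', i n' = x * i n * x⁻¹ → θ n' = θ n

theorem Fix.exists_Tw {i : N →* G} (hi : Function.Injective i) {θ : N → ℂ} {x : G}
    (h : Fix i θ x) {n : ℕ} {ρ : Representation ℂ N (Fin n → ℂ)} (hρ : ρ.IsIrreducible)
    (hθ : ρ.character = θ) : ∃ A, Tw i ρ x A :=
  Pair.exists_Tw hi hρ x h.nrm (fun a b hab => by rw [hθ]; exact h.inv a b hab)

theorem exists_WC {i : N →* G} (hi : Function.Injective i) {θ : N → ℂ} (hθ : IsIrrCharacter N θ)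
    {x y : G} (hx : Fix i θ x) (hy : Fix i θ y) {c : N} (hc : i c = ⁅x, y⁆) :
    ∃ w, WC i θ x y w := by
  obtain ⟨n, ρ, hρ, hθ'⟩ := hθ
  obtain ⟨A, hA⟩ := hx.exists_Tw hi hρ hθ'
  obtain ⟨B, hB⟩ := hy.exists_Tw hi hρ hθ'
  obtain ⟨w, hw⟩ := exists_W hi hρ hA hB hc
  exact ⟨w, n, ρ, hρ, hθ', hw⟩

theorem WC_self {i : N →* G} (hi : Function.Injective i) {θ : N → ℂ} (hθ : IsIrrCharacter N θ)
    {x : G} (hx : Fix i θ x) : WC i θ x x 1 := by
  obtain ⟨n, ρ, hρ, hθ'⟩ := hθ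
  obtain ⟨A, hA⟩ := hx.exists_Tw hi hρ hθ'
  exact ⟨n, ρ, hρ, hθ', W.self hA⟩

theorem WC_of_mem {i : N →* G} (hi : Function.Injective i) {θ : N → ℂ} (hθ : IsIrrCharacter N θ)
    (a : N) {y : G} (hy : Fix i θ y) : WC i θ (i a) y 1 := by
  obtain ⟨n, ρ, hρ, hθ'⟩ := hθ
  obtain ⟨B, hB⟩ := hy.exists_Tw hi hρ hθ'
  exact ⟨n, ρ, hρ, hθ', W.of_mem hi a hB⟩

omit [Finite N] in
/-- restriction to a subgroup on which the character stays irreducible -/
theorem WC.restrict {M : Type*} [Group M] [Finite M] {i : N →* G} {m : M →* N}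
    (hi : Function.Injective i) {θ : N → ℂ} {x y : G} {w : ℂ} (h : WC i θ x y w)
    (hm : IsIrrCharacter M (θ ∘ m))
    (h1 : ∀ a, ∃ b, i (m b) = x * i (m a) * x⁻¹) (h2 : ∀ a, ∃ b, i (m b) = x⁻¹ * i (m a) * x)
    (h1' : ∀ a, ∃ b, i (m b) = y * i (m a) * y⁻¹) (h2' : ∀ a, ∃ b, i (m b) = y⁻¹ * i (m a) * y)
    (hc : ∃ c, i (m c) = ⁅x, y⁆) : WC (i.comp m) (θ ∘ m) x y w := by
  obtain ⟨n, ρ, hρ, hθ, hW⟩ := h
  have h3 := hW.restrict hi hρ h1 h2 h1' h2' hc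
  have h4 : Representation.character (ρ.comp m) = θ ∘ m := by rw [← hθ]; rfl
  refine ⟨n, ρ.comp m, ?_, h4, h3⟩
  obtain ⟨k, σ, hσ, hσ'⟩ := hm
  exact isIrreducible_of_character_eq σ (ρ.comp m) hσ (hσ'.trans h4.symm)

omit [Finite N] in
/-- extension relation -/
theorem ext_relC {M : Type*} [Group M] [Finite M] (m : M →* N) (ι : N →* G)
    (hι : Function.Injective ι) (hn : m.range.Normal) (hmi : Function.Injective m)
    {η : N → ℂ} (hη : IsIrrCharacter N η)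
    (hm : IsIrrCharacter M (η ∘ m)) {x : G} (hx : ∀ k, ∃ k', ι k' = x * ι k * x⁻¹)
    (hf : Fix (ι.comp m) (η ∘ m) x) :
    ∃ c : N →* ℂˣ, (∀ a, c (m a) = 1) ∧
      (∀ k k', ι k' = x * ι k * x⁻¹ → η k' = (c k : ℂ) * η k) ∧
      ∀ k0, (∃ c0 : M, ι (m c0) = ⁅x, ι k0⁆) →
        WC (ι.comp m) (η ∘ m) x (ι k0) ((c k0 : ℂ)⁻¹) := by
  obtain ⟨n, σ, hσ, rfl⟩ := hη
  have h4 : Representation.character (σ.comp m) = σ.character ∘ m := rfl
  have h5 : Representation.IsIrreducible (σ.comp m) := by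
    obtain ⟨k, σ', hσ', hσ''⟩ := hm
    exact isIrreducible_of_character_eq σ' (σ.comp m) hσ' (hσ''.trans h4.symm)
  obtain ⟨A, hA⟩ := hf.exists_Tw (show Function.Injective (ι.comp m) from hι.comp hmi) h5 h4
  obtain ⟨c, h1, h2, h3⟩ := ext_rel m ι hι hn σ h5 hA hx
  exact ⟨c, h1, h2, fun k0 hk0 => ⟨n, σ.comp m, h5, h4, h3 k0 hk0⟩⟩

open Classical in
/-- the value of the pairing, `0` where it is not defined -/
noncomputable def OmC (i : N →* G) (θ : N → ℂ) (x y : G) : ℂ :=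
  if h : ∃ w, WC i θ x y w then h.choose else 0

theorem OmC_of_WC {i : N →* G} (hi : Function.Injective i) {θ : N → ℂ} {x y : G} {w : ℂ}
    (h : WC i θ x y w) : OmC i θ x y = w := by
  have h1 : ∃ w, WC i θ x y w := ⟨w, h⟩
  rw [OmC, dif_pos h1]
  exact h1.choose_spec.unique hi h

omit [Finite N] in
theorem OmC_of_not {i : N →* G} {θ : N → ℂ} {x y : G}
    (h : ⁅x, y⁆ ∉ i.range) : OmC i θ x y = 0 := by
  rw [OmC, dif_neg]
  rintro ⟨w, n, ρ, -, -, A, B, -, -, c, hc, -⟩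
  exact h ⟨c, hc⟩

/-- **The counting formula.** -/
theorem countC {H : Type*} [Group H] [Finite G] [Fintype H]
    (i : N →* G) (hi : Function.Injective i) (hn : i.range.Normal)
    {θ : N → ℂ} (hθ : IsIrrCharacter N θ)
    (hinv : ∀ (g : G) (n n' : N), i n' = g * i n * g⁻¹ → θ n' = θ n)
    (j : H →* G) (hj : Function.Injective j) (hG : ∀ g : G, ∃ (a : N) (h : H), g = i a * j h) :
    (Nat.card {χ : IrrCharacter G // Over i (χ : G → ℂ) θ} : ℂ) *
      ((Nat.card H : ℂ) * Nat.card {h : H // j h ∈ i.range}) =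
      ∑ h : H, ∑ h' : H, OmC i θ (j h) (j h') := by
  classical
  have := Fintype.ofFinite N
  obtain ⟨n, ρ, hρ, rfl⟩ := hθ
  rw [count i hi hn ρ hρ hinv j hj hG]
  refine Finset.sum_congr rfl fun h _ => Finset.sum_congr rfl fun h' _ => ?_
  by_cases hw : ∃ w, W i ρ (j h) (j h') w
  · obtain ⟨w, hw⟩ := hw
    rw [Om_of_W hi hρ hw, OmC_of_WC hi (θ := ρ.character) ⟨n, ρ, hρ, rfl, hw⟩]
  · have hw' : ¬ ∃ w, WC i ρ.character (j h) (j h') w := fun ⟨w, hw'⟩ => hw ⟨w, hw'.toW rfl⟩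
    rw [Om, dif_neg hw, OmC, dif_neg hw']

end Cfsg.Agent.H676.RM.PairChar
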