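import Mathlib
import Cfsg.Agent.S4444
import Cfsg.Agent.H676.RM.PairChar

/-!
# The Glauberman correspondence for `p`-groups through multiplicities prime to `p`

* `mu f χ θ` : the multiplicity of `θ` in `χ ∘ f`; `mu_comp` : transitivity.
* `PP p f χ θ` : the multiplicity is a natural number not divisible by `p`.
* `PP_comp_iff` : if `γ` is the only constituent of `χ ∘ k` with this property, then it passes to `γ`.
* `Cop p K S C` : the `p`-group `S` acts on the `p'`-group `K` with fixed points `C`.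
-/

set_option autoImplicit false
set_option linter.style.haveILetI false

namespace Cfsg.Agent.H676.RM.Star

open Cfsg Module Cfsg.Agent.H676.RM.Pair Cfsg.Agent.H676.RM.PairChar
open Cfsg.Agent.Characters.Core Cfsg.Agent.H672
open scoped commutatorElement ComplexConjugate

section mu
variable {H G M : Type*} [Group H] [Group G] [Group M] [Finite H]

/-- the multiplicity of `θ` in `χ ∘ f` -/
noncomputable def mu (f : H →* G) (χ : G → ℂ) (θ : H → ℂ) : ℂ :=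
  letI := Fintype.ofFinite H
  classInner (χ ∘ f) θ

theorem mu_eq [Fintype H] (f : H →* G) (χ : G → ℂ) (θ : H → ℂ) :
    mu f χ θ = classInner (χ ∘ f) θ := by
  unfold mu
  have : Fintype.ofFinite H = ‹Fintype H› := Subsingleton.elim _ _
  rw [this]

theorem over_iff_mu (f : H →* G) (χ : G → ℂ) (θ : H → ℂ) : Over f χ θ ↔ mu f χ θ ≠ 0 := Iff.rfl

theorem mu_nat {f : H →* G} {χ : G → ℂ} {θ : H → ℂ} (hχ : IsCharacter G χ)
    (hθ : IsCharacter H θ) : ∃ m : ℕ, mu f χ θ = m := by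
  letI := Fintype.ofFinite H
  exact classInner_isNat (isCharacter_comp f hχ) hθ

theorem mu_comp [Finite M] [Fintype (IrrCharacter M)] (k : M →* G) (m : H →* M) {χ : G → ℂ}
    (hχ : IsCharacter G χ) (θ : H → ℂ) :
    mu (k.comp m) χ θ = ∑ γ : IrrCharacter M, mu k χ (γ : M → ℂ) * mu m (γ : M → ℂ) θ := by
  letI := Fintype.ofFinite H
  letI := Fintype.ofFinite M
  have h1 := classFunction_eq_sum (isCharacter_isClassFunction (isCharacter_comp k hχ))
  have h2 : χ ∘ (k.comp m) = ∑ γ : IrrCharacter M, mu k χ (γ : M → ℂ) • ((γ : M → ℂ) ∘ m) := by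
    funext h
    have h3 := congrFun h1 (m h)
    rw [Finset.sum_apply] at h3 ⊢
    simp only [Pi.smul_apply] at h3 ⊢
    simp only [mu_eq]
    exact h3
  rw [mu_eq, h2, classInner_sum_left]
  refine Finset.sum_congr rfl fun γ _ => ?_
  rw [classInner_smul_left, mu_eq m]

/-- the multiplicity is a natural number prime to `p` -/
def PP (p : ℕ) (f : H →* G) (χ : G → ℂ) (θ : H → ℂ) : Prop :=
  ∃ m : ℕ, mu f χ θ = m ∧ ¬ p ∣ m

theorem PP.over {p : ℕ} {f : H →* G} {χ : G → ℂ} {θ : H → ℂ} (h : PP p f χ θ) :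
    Over f χ θ := by
  obtain ⟨m, hm, hp⟩ := h
  rw [over_iff_mu, hm]
  intro h0
  have : m = 0 := by exact_mod_cast h0
  exact hp (this ▸ dvd_zero p)

theorem PP_comp_iff [Finite M] {p : ℕ} (hp : p.Prime) (k : M →* G) (m : H →* M) {χ : G → ℂ}
    (hχ : IsCharacter G χ) {θ : H → ℂ} (hθ : IsIrrCharacter H θ) {γ0 : M → ℂ}
    (hγ0 : IsIrrCharacter M γ0) (h0 : PP p k χ γ0)
    (huniq : ∀ γ, IsIrrCharacter M γ → PP p k χ γ → γ = γ0) :
    PP p (k.comp m) χ θ ↔ PP p m γ0 θ := by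
  classical
  have : Finite (IrrCharacter M) := finite_irr
  letI := Fintype.ofFinite (IrrCharacter M)
  choose a ha using fun γ : IrrCharacter M =>
    mu_nat (f := k) (θ := (γ : M → ℂ)) hχ (isIrr_isCharacter γ.2)
  choose b hb using fun γ : IrrCharacter M =>
    mu_nat (f := m) (θ := θ) (isIrr_isCharacter γ.2) (isIrr_isCharacter hθ)
  have h1 : mu (k.comp m) χ θ = ((∑ γ : IrrCharacter M, a γ * b γ : ℕ) : ℂ) := by
    rw [mu_comp k m hχ]
    push_cast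
    exact Finset.sum_congr rfl fun γ _ => by rw [ha, hb]
  have h2 : ∀ γ : IrrCharacter M, γ ≠ ⟨γ0, hγ0⟩ → p ∣ a γ := by
    intro γ hγ
    by_contra hcon
    exact hγ (Subtype.ext (huniq γ γ.2 ⟨a γ, ha γ, hcon⟩))
  have h3 : ¬ p ∣ a ⟨γ0, hγ0⟩ := by
    obtain ⟨m', hm', hpm'⟩ := h0
    have : m' = a ⟨γ0, hγ0⟩ := Nat.cast_injective (R := ℂ) (hm'.symm.trans (ha ⟨γ0, hγ0⟩))
    rwa [← this]
  have h4 : p ∣ ∑ γ : IrrCharacter M, a γ * b γ ↔ p ∣ b ⟨γ0, hγ0⟩ := by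
    have h5 : ∑ γ : IrrCharacter M, a γ * b γ = a ⟨γ0, hγ0⟩ * b ⟨γ0, hγ0⟩ +
        ∑ γ ∈ Finset.univ.erase (⟨γ0, hγ0⟩ : IrrCharacter M), a γ * b γ :=
      (Finset.add_sum_erase Finset.univ (fun γ => a γ * b γ)
        (Finset.mem_univ (⟨γ0, hγ0⟩ : IrrCharacter M))).symm
    have h6 : p ∣ ∑ γ ∈ Finset.univ.erase (⟨γ0, hγ0⟩ : IrrCharacter M), a γ * b γ :=
      Finset.dvd_sum fun γ hγ => (h2 γ (Finset.ne_of_mem_erase hγ)).mul_right _
    rw [h5, Nat.dvd_add_left h6, hp.dvd_mul]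
    exact ⟨fun h => h.resolve_left h3, Or.inr⟩
  constructor
  · rintro ⟨m', hm', hpm'⟩
    refine ⟨b ⟨γ0, hγ0⟩, hb ⟨γ0, hγ0⟩, ?_⟩
    rw [← h4]
    have : m' = ∑ γ : IrrCharacter M, a γ * b γ := Nat.cast_injective (R := ℂ) (hm'.symm.trans h1)
    rwa [← this]
  · rintro ⟨m', hm', hpm'⟩
    refine ⟨_, h1, ?_⟩
    rw [h4]
    have : m' = b ⟨γ0, hγ0⟩ := Nat.cast_injective (R := ℂ) (hm'.symm.trans (hb ⟨γ0, hγ0⟩))
    rwa [← this]

end mu

section Cop
variable {Γ : Type*} [Group Γ] [Finite Γ]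

/-- The `p`-group `S` acts on the `p'`-group `K` with fixed points `C`. -/
structure Cop (p : ℕ) (K S C : Subgroup Γ) : Prop where
  nrm : ∀ s ∈ S, ∀ g ∈ K, s * g * s⁻¹ ∈ K
  ndvd : ¬ p ∣ Nat.card K
  pS : IsPGroup p S
  eq : C = K ⊓ Subgroup.centralizer (S : Set Γ)

variable {p : ℕ} {K S C : Subgroup Γ}

omit [Finite Γ] in
theorem Cop.le (h : Cop p K S C) : C ≤ K := h.eq ▸ inf_le_left

omit [Finite Γ] in
theorem Cop.mem_iff (h : Cop p K S C) {g : Γ} : g ∈ C ↔ g ∈ K ∧ ∀ s ∈ S, s * g = g * s := by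
  rw [h.eq, Subgroup.mem_inf, Subgroup.mem_centralizer_iff]
  rfl

/-- `S`-invariant functions -/
def SInv (S K : Subgroup Γ) (τ : K → ℂ) : Prop :=
  ∀ s ∈ S, ∀ g g' : K, (g' : Γ) = s * g * s⁻¹ → τ g' = τ g

theorem Cop.coprime [Fact p.Prime] (h : Cop p K S C) : (Nat.card K).Coprime (Nat.card S) := by
  obtain ⟨n, hn⟩ := IsPGroup.iff_card.1 h.pS
  rw [hn]
  exact (Nat.Coprime.pow_left n ((Fact.out : p.Prime).coprime_iff_not_dvd.2 h.ndvd)).symm

theorem star [Fact p.Prime] (h : Cop p K S C) {τ : K → ℂ} (hτ : IsIrrCharacter K τ)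
    (hinv : SInv S K τ) : ∃ β : C → ℂ, IsIrrCharacter C β ∧ PP p (Subgroup.inclusion h.le) τ β ∧
      ∀ β', IsIrrCharacter C β' → PP p (Subgroup.inclusion h.le) τ β' → β' = β := by
  letI := Fintype.ofFinite Γ
  letI := Fintype.ofFinite K
  letI := Fintype.ofFinite C
  obtain ⟨h1, -, -, -⟩ := Cfsg.Agent.S4444.result K S h.nrm h.coprime p Fact.out h.pS C h.eq h.le
  obtain ⟨β, ⟨m, hm, hpm⟩, hu⟩ := h1 ⟨τ, hτ⟩ hinv
  refine ⟨β, β.2, ⟨m, by rw [mu_eq]; exact hm, hpm⟩, ?_⟩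
  rintro β' hβ' ⟨m', hm', hpm'⟩
  have := hu ⟨β', hβ'⟩ ⟨m', by rw [mu_eq] at hm'; exact hm', hpm'⟩
  exact congrArg Subtype.val this

theorem star_inj [Fact p.Prime] (h : Cop p K S C) {τ τ' : K → ℂ} (hτ : IsIrrCharacter K τ)
    (hτ' : IsIrrCharacter K τ') (hinv : SInv S K τ) (hinv' : SInv S K τ') {β : C → ℂ}
    (hβ : IsIrrCharacter C β) (h1 : PP p (Subgroup.inclusion h.le) τ β)
    (h2 : PP p (Subgroup.inclusion h.le) τ' β) : τ = τ' := by
  letI := Fintype.ofFinite Γ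
  letI := Fintype.ofFinite K
  letI := Fintype.ofFinite C
  obtain ⟨-, -, h3, -⟩ := Cfsg.Agent.S4444.result K S h.nrm h.coprime p Fact.out h.pS C h.eq h.le
  obtain ⟨m, hm, hpm⟩ := h1
  obtain ⟨m', hm', hpm'⟩ := h2
  rw [mu_eq] at hm hm'
  have := h3 ⟨τ, hτ⟩ ⟨τ', hτ'⟩ hinv hinv' ⟨β, hβ⟩ m m' hm hpm hm' hpm'
  exact congrArg Subtype.val this

theorem star_surj [Fact p.Prime] (h : Cop p K S C) {β : C → ℂ} (hβ : IsIrrCharacter C β) :
    ∃ τ : K → ℂ, IsIrrCharacter K τ ∧ SInv S K τ ∧ PP p (Subgroup.inclusion h.le) τ β := by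
  letI := Fintype.ofFinite Γ
  letI := Fintype.ofFinite K
  letI := Fintype.ofFinite C
  obtain ⟨-, -, -, h4⟩ := Cfsg.Agent.S4444.result K S h.nrm h.coprime p Fact.out h.pS C h.eq h.le
  obtain ⟨τ, hinv, m, hm, hpm⟩ := h4 ⟨β, hβ⟩
  exact ⟨τ, τ.2, hinv, m, by rw [mu_eq]; exact hm, hpm⟩

omit [Finite Γ] in
/-- Multiplicities and conjugation by an element normalising both groups. -/
theorem mu_conj [Finite C] (hle : C ≤ K) {x : Γ}
    (hxC : ∀ g ∈ C, x * g * x⁻¹ ∈ C) {τ τ' : K → ℂ} {β β' : C → ℂ}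
    (hτ : ∀ g g' : K, (g' : Γ) = x * g * x⁻¹ → τ' g' = τ g)
    (hβ : ∀ g g' : C, (g' : Γ) = x * g * x⁻¹ → β' g' = β g) :
    mu (Subgroup.inclusion hle) τ' β' = mu (Subgroup.inclusion hle) τ β := by
  letI := Fintype.ofFinite C
  rw [mu_eq, mu_eq, classInner_def, classInner_def]
  congr 1
  symm
  let f : C → C := fun c => ⟨x * c * x⁻¹, hxC c c.2⟩
  have hf : Function.Bijective f := by
    rw [Fintype.bijective_iff_injective_and_card]
    refine ⟨fun a b hab => ?_, rfl⟩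
    have := congrArg (fun z : C => (z : Γ)) hab
    exact Subtype.ext (mul_left_cancel (mul_right_cancel this))
  refine Fintype.sum_bijective f hf _ _ fun c => ?_
  rw [Function.comp_apply, Function.comp_apply, hβ c (f c) rfl,
    hτ (Subgroup.inclusion hle c) (Subgroup.inclusion hle (f c)) rfl]

/-- The correspondent of a fixed character is fixed. -/
theorem fix_star [Fact p.Prime] (h : Cop p K S C) {τ : K → ℂ} (hτ : IsIrrCharacter K τ)
    (hinv : SInv S K τ) {β : C → ℂ} (hβ : IsIrrCharacter C β)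
    (hP : PP p (Subgroup.inclusion h.le) τ β) {x : Γ} (hx : Fix K.subtype τ x)
    (hxC : ∀ g ∈ C, x * g * x⁻¹ ∈ C) : Fix C.subtype β x := by
  have hxC' : ∀ n : C, ∃ n' : C, C.subtype n' = x * C.subtype n * x⁻¹ :=
    fun n => ⟨⟨_, hxC n n.2⟩, rfl⟩
  refine ⟨hxC', ?_⟩
  obtain ⟨α, hα, hαi⟩ := exists_conjHom C.subtype Subtype.val_injective x hxC'
  have hsurj : Function.Surjective α := Finite.injective_iff_surjective.1 hα
  have hβ' : IsIrrCharacter C (β ∘ α) := isIrr_comp α hsurj hβ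
  obtain ⟨β0, -, -, hu⟩ := star h hτ hinv
  have h1 := hu β hβ hP
  have h2 : mu (Subgroup.inclusion h.le) τ β = mu (Subgroup.inclusion h.le) τ (β ∘ α) := by
    refine mu_conj h.le hxC (fun g g' hg => hx.inv g g' hg) (fun g g' hg => ?_)
    have : g' = α g := Subtype.ext (hg.trans (hαi g).symm)
    rw [this]; rfl
  have h3 := hu (β ∘ α) hβ' (by
    obtain ⟨m, hm, hpm⟩ := hP
    exact ⟨m, by rw [← h2]; exact hm, hpm⟩)
  intro n n' hn
  have : n' = α n := Subtype.ext (hn.trans (hαi n).symm)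
  rw [this]
  have h4 := congrFun (h3.trans h1.symm) n
  exact h4

omit [Finite Γ] in
/-- an element normalising `K` and `S` normalises `C` -/
theorem Cop.nrm_C (h : Cop p K S C) {x : Γ} (hxK : ∀ g ∈ K, x * g * x⁻¹ ∈ K)
    (hxS : ∀ s ∈ S, x⁻¹ * s * x ∈ S) : ∀ g ∈ C, x * g * x⁻¹ ∈ C := by
  intro g hg
  rw [h.mem_iff] at hg ⊢
  refine ⟨hxK g hg.1, fun s hs => ?_⟩
  have h1 := hg.2 _ (hxS s hs)
  calc s * (x * g * x⁻¹) = x * ((x⁻¹ * s * x) * g) * x⁻¹ := by group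
    _ = x * (g * (x⁻¹ * s * x)) * x⁻¹ := by rw [h1]
    _ = x * g * x⁻¹ * s := by group

end Cop

end Cfsg.Agent.H676.RM.Star
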