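import Mathlib
import Cfsg.Agent.S0886
import Cfsg.Agent.CharactersDeep.CosetAverage
import Cfsg.Agent.OddOrderCharacters.PF9.CliffGen
import Cfsg.Agent.H676.RM.Star

/-!
# Extensions to cyclic quotients, along embeddings; adjoining an element to a subgroup
-/

set_option autoImplicit false
set_option linter.style.haveILetI false

namespace Cfsg.Agent.H676.RM.PairChar

open Cfsg Module Cfsg.Agent.H676.RM.Pair Cfsg.Agent.H676.RM.Star
open Cfsg.Agent.Characters.Core Cfsg.Agent.H672
open scoped commutatorElement ComplexConjugate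

section Fix
variable {N G : Type*} [Group N] [Group G] {i : N →* G} {θ : N → ℂ}

theorem Fix.one (hi : Function.Injective i) : Fix i θ 1 :=
  ⟨fun n => ⟨n, by simp⟩, fun n n' h => by rw [hi (show i n' = i n by rw [h]; simp)]⟩

theorem Fix.mul {x y : G} (hx : Fix i θ x) (hy : Fix i θ y) : Fix i θ (x * y) := by
  refine ⟨fun n => ?_, fun n n'' h => ?_⟩
  · obtain ⟨n', hn'⟩ := hy.nrm n
    obtain ⟨n'', hn''⟩ := hx.nrm n'
    exact ⟨n'', by rw [hn'', hn']; group⟩
  · obtain ⟨n', hn'⟩ := hy.nrm n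
    rw [← hy.inv n n' hn']
    exact hx.inv n' n'' (by rw [h, hn']; group)

theorem nrm_inv [Finite N] (hi : Function.Injective i) {x : G}
    (hx : ∀ n, ∃ n', i n' = x * i n * x⁻¹) (n : N) : ∃ n', i n' = x⁻¹ * i n * x := by
  obtain ⟨α, hα, hαi⟩ := exists_conjHom i hi x hx
  obtain ⟨m, rfl⟩ := (Finite.injective_iff_surjective.1 hα) n
  exact ⟨m, by rw [hαi]; group⟩

theorem Fix.inv' [Finite N] (hi : Function.Injective i) {x : G} (hx : Fix i θ x) :
    Fix i θ x⁻¹ := by
  refine ⟨fun n => ?_, fun n n' h => ?_⟩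
  · obtain ⟨n', hn'⟩ := nrm_inv hi hx.nrm n
    exact ⟨n', by rw [hn']; group⟩
  · exact (hx.inv n' n (by rw [h]; group)).symm

theorem Fix.npow (hi : Function.Injective i) {x : G} (hx : Fix i θ x) (n : ℕ) :
    Fix i θ (x ^ n) := by
  induction n with
  | zero => rw [pow_zero]; exact Fix.one hi
  | succ n ih => rw [pow_succ]; exact ih.mul hx

theorem Fix.zpow [Finite N] (hi : Function.Injective i) {x : G} (hx : Fix i θ x) (n : ℤ) :
    Fix i θ (x ^ n) := by
  cases n with
  | ofNat n => rw [Int.ofNat_eq_natCast, zpow_natCast]; exact hx.npow hi n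
  | negSucc n => rw [zpow_negSucc]; exact (hx.npow hi (n + 1)).inv' hi

theorem Fix.of_mem (hi : Function.Injective i) (hθ : IsClassFunction N θ) (a : N) :
    Fix i θ (i a) := by
  refine ⟨fun n => ⟨a * n * a⁻¹, by simp⟩, fun n n' h => ?_⟩
  have : n' = a * n * a⁻¹ := hi (by rw [h]; simp)
  rw [this, hθ]

theorem WC.npow_left [Finite N] (hi : Function.Injective i) {x y : G} {w : ℂ}
    (hy : Fix i θ y) (h : WC i θ x y w) (n : ℕ) : WC i θ (x ^ n) y (w ^ n) := by
  induction n with
  | zero =>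
    rw [pow_zero, pow_zero, ← map_one i]
    exact WC_of_mem hi h.irr 1 hy
  | succ n ih => rw [pow_succ, pow_succ]; exact ih.mul_left hi h

theorem WC.npow_right [Finite N] (hi : Function.Injective i) {x y : G} {w : ℂ}
    (hx : Fix i θ x) (h : WC i θ x y w) (n : ℕ) : WC i θ x (y ^ n) (w ^ n) := by
  have := (WC.npow_left hi hx h.symm n).symm
  rwa [← inv_pow, inv_inv] at this

end Fix

end Cfsg.Agent.H676.RM.PairChar

namespace Cfsg.Agent.H676.RM.Adj

open Cfsg Module Cfsg.Agent.H676.RM.Pair Cfsg.Agent.H676.RM.PairChar Cfsg.Agent.H676.RM.Star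
open Cfsg.Agent.Characters.Core Cfsg.Agent.H672
open scoped commutatorElement ComplexConjugate

section Ext
variable {M N : Type*} [Group M] [Group N] [Finite N] (m : M →* N) (hm : Function.Injective m)
  (hn : m.range.Normal)
include hm hn

theorem exists_ext (hc : IsCyclic (N ⧸ m.range)) {θ : M → ℂ}
    (hθ : IsIrrCharacter M θ)
    (hinv : ∀ (g : N) (a a' : M), m a' = g * m a * g⁻¹ → θ a' = θ a) :
    ∃ η : N → ℂ, IsIrrCharacter N η ∧ η ∘ m = θ := by
  let e : M ≃* m.range := MonoidHom.ofInjective hm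
  have he : ∀ x : m.range, m (e.symm x) = x := fun x => congrArg Subtype.val (e.apply_symm_apply x)
  have h1 : IsIrrCharacter m.range (θ ∘ e.symm) :=
    isIrr_comp (e.symm : m.range →* M) e.symm.surjective hθ
  obtain ⟨η, hη, hηe⟩ := Cfsg.Agent.S0886.result m.range hc (θ ∘ e.symm) h1 (by
    intro g n
    exact hinv g _ _ (by rw [he, he]))
  refine ⟨η, hη, ?_⟩
  funext a
  have h2 := hηe (e a)
  rw [Function.comp_apply, e.symm_apply_apply] at h2
  rw [← h2]
  rfl

theorem exists_ne_zero {η : N → ℂ} (hη : IsIrrCharacter N η) (h : IsIrrCharacter M (η ∘ m))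
    (g : N) : ∃ a, η (m a * g) ≠ 0 := by
  classical
  letI := Fintype.ofFinite N
  letI := Fintype.ofFinite m.range
  let e : M ≃* m.range := MonoidHom.ofInjective hm
  have he : ∀ x : m.range, m (e.symm x) = x := fun x => congrArg Subtype.val (e.apply_symm_apply x)
  have h1 : IsIrrCharacter m.range (fun n : m.range => η n) := by
    have := isIrr_comp (e.symm : m.range →* M) e.symm.surjective h
    convert this using 1
    funext x
    show η x = η (m (e.symm x))
    rw [he]
  have h2 := CharactersDeep.CosetAverage.cosetAverage_self m.range η hη h1 g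
  by_contra hcon
  push Not at hcon
  rw [Finset.sum_eq_zero, mul_zero] at h2
  · exact zero_ne_one h2
  · intro n _
    rw [← he n, hcon, zero_mul]

theorem comp_eq_of_cyclic (hc : IsCyclic (N ⧸ m.range)) {θ : M → ℂ}
    (hθ : IsIrrCharacter M θ)
    (hinv : ∀ (g : N) (a a' : M), m a' = g * m a * g⁻¹ → θ a' = θ a) {χ : N → ℂ}
    (hχ : IsIrrCharacter N χ) [Finite M] (ho : Over m χ θ) : χ ∘ m = θ := by
  classical
  letI := Fintype.ofFinite N
  letI := Fintype.ofFinite M
  letI := Fintype.ofFinite m.range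
  obtain ⟨η, hη, hηθ⟩ := exists_ext m hm hn hc hθ hinv
  let e : M ≃* m.range := MonoidHom.ofInjective hm
  have he : ∀ x : m.range, m (e.symm x) = x := fun x => congrArg Subtype.val (e.apply_symm_apply x)
  have hcomp : ∀ f : N → ℂ, (fun n : m.range => f n) = (f ∘ m) ∘ (e.symm : m.range →* M) := by
    intro f
    funext x
    show f x = f (m (e.symm x))
    rw [he]
  have h1 : IsIrrCharacter m.range (fun n : m.range => η n) := by
    rw [hcomp, hηθ]
    exact isIrr_comp (e.symm : m.range →* M) e.symm.surjective hθ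
  have h2 : classInner (fun n : m.range => χ n) (fun n : m.range => η n) ≠ 0 := by
    rw [hcomp, hcomp, hηθ]
    have := Cfsg.Agent.Characters.Clifford.classInner_comp_mulEquiv e.symm (χ ∘ m) θ
    have h3 : classInner ((χ ∘ m) ∘ e.symm) (θ ∘ e.symm) ≠ 0 := by
      rw [this]; exact (over_iff _ _ _).1 ho
    exact h3
  obtain ⟨lam, hlam, hlc, hmul⟩ :=
    CharactersDeep.CosetAverage.exists_irr_mul m.range η hη h1 χ hχ h2
  -- lam is linear
  have h4 : ∀ y ∈ commutator N, lam y = lam 1 := by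
    intro y hy
    have hle : commutator N ≤ m.range := by
      have := hc
      exact Subgroup.Normal.quotient_commutative_iff_commutator_le.1 IsCyclic.isMulCommutative
    have := hlc ⟨y, hle hy⟩ 1
    rwa [mul_one] at this
  obtain ⟨f, hf⟩ := OddOrderCharacters.PF9.CliffGen.exists_hom_of_ker hlam h4
  funext a
  rw [Function.comp_apply, hmul, Pi.mul_apply]
  have h5 : lam (m a) = 1 := by
    have h6 := hlc ⟨m a, ⟨a, rfl⟩⟩ 1
    rw [mul_one] at h6
    rw [h6, hf]
    simp
  rw [h5, mul_one]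
  exact congrFun hηθ a

end Ext

section adj
variable {Γ : Type*} [Group Γ]

/-- `K⟨y⟩` for `y` normalising `K` -/
def adj (K : Subgroup Γ) (y : Γ) (hy : y ∈ Subgroup.normalizer (K : Set Γ)) : Subgroup Γ where
  carrier := {g | ∃ k ∈ K, ∃ n : ℤ, g = k * y ^ n}
  one_mem' := ⟨1, K.one_mem, 0, by simp⟩
  mul_mem' := by
    rintro _ _ ⟨k, hk, n, rfl⟩ ⟨k', hk', n', rfl⟩
    have h1 : y ^ n ∈ Subgroup.normalizer (K : Set Γ) := Subgroup.zpow_mem _ hy n
    exact ⟨k * (y ^ n * k' * (y ^ n)⁻¹), K.mul_mem hk ((Subgroup.mem_normalizer_iff.1 h1 k').1 hk'),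
      n + n', by rw [zpow_add]; group⟩
  inv_mem' := by
    rintro _ ⟨k, hk, n, rfl⟩
    have h1 : y ^ (-n) ∈ Subgroup.normalizer (K : Set Γ) := Subgroup.zpow_mem _ hy _
    exact ⟨y ^ (-n) * k⁻¹ * (y ^ (-n))⁻¹, (Subgroup.mem_normalizer_iff.1 h1 k⁻¹).1 (K.inv_mem hk),
      -n, by group⟩

variable {K : Subgroup Γ} {y : Γ} (hy : y ∈ Subgroup.normalizer (K : Set Γ))

theorem mem_adj {g : Γ} : g ∈ adj K y hy ↔ ∃ k ∈ K, ∃ n : ℤ, g = k * y ^ n := Iff.rfl

theorem le_adj : K ≤ adj K y hy := fun k hk => ⟨k, hk, 0, by simp⟩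

theorem self_mem_adj : y ∈ adj K y hy := ⟨1, K.one_mem, 1, by simp⟩

theorem adj_le_normalizer : adj K y hy ≤ Subgroup.normalizer (K : Set Γ) := by
  rintro _ ⟨k, hk, n, rfl⟩
  exact Subgroup.mul_mem _ (Subgroup.le_normalizer hk) (Subgroup.zpow_mem _ hy n)

theorem range_normal : (Subgroup.inclusion (le_adj hy)).range.Normal := by
  rw [Subgroup.inclusion_range]
  refine ⟨fun n hn g => ?_⟩
  rw [Subgroup.mem_subgroupOf] at hn ⊢
  have h1 := adj_le_normalizer hy g.2
  exact (Subgroup.mem_normalizer_iff.1 h1 _).1 hn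

include hy in
theorem zpow_mk (g : adj K y hy) : ∃ n : ℤ, haveI := range_normal hy
    (QuotientGroup.mk ⟨y, self_mem_adj hy⟩ : adj K y hy ⧸ (Subgroup.inclusion (le_adj hy)).range) ^ n
      = QuotientGroup.mk g := by
  have := range_normal hy
  obtain ⟨g, k, hk, n, rfl⟩ := g
  refine ⟨n, ?_⟩
  rw [← QuotientGroup.mk_zpow]
  apply QuotientGroup.eq.2
  refine ⟨⟨(y ^ n)⁻¹ * k * y ^ n, ?_⟩, ?_⟩
  · have h1 : y ^ (-n) ∈ Subgroup.normalizer (K : Set Γ) := Subgroup.zpow_mem _ hy _
    have h2 := (Subgroup.mem_normalizer_iff.1 h1 k).1 hk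
    rwa [zpow_neg, inv_inv] at h2
  · apply Subtype.ext
    show (y ^ n)⁻¹ * k * y ^ n = (y ^ n)⁻¹ * (k * y ^ n)
    group

theorem range_cyclic : haveI := range_normal hy
    IsCyclic (adj K y hy ⧸ (Subgroup.inclusion (le_adj hy)).range) := by
  have := range_normal hy
  refine ⟨⟨QuotientGroup.mk ⟨y, self_mem_adj hy⟩, fun x => ?_⟩⟩
  obtain ⟨g, rfl⟩ := QuotientGroup.mk_surjective x
  exact zpow_mk hy g

theorem not_dvd_card [Finite Γ] {p : ℕ} (hp : p.Prime) (h1 : ¬ p ∣ Nat.card K)
    (h2 : ¬ p ∣ orderOf y) : ¬ p ∣ Nat.card (adj K y hy) := by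
  intro hd
  have hN := range_normal hy
  have hcyc := range_cyclic hy
  have h3 := Subgroup.card_eq_card_quotient_mul_card_subgroup
    ((Subgroup.inclusion (le_adj hy)).range)
  have h4 : Nat.card (Subgroup.inclusion (le_adj hy)).range = Nat.card K :=
    Nat.card_congr (MonoidHom.ofInjective (Subgroup.inclusion_injective _)).symm.toEquiv
  rw [h3, h4] at hd
  rcases (hp.dvd_mul).1 hd with h5 | h5
  · -- the quotient is generated by the image of `y`
    have h6 : Nat.card (adj K y hy ⧸ (Subgroup.inclusion (le_adj hy)).range) ∣ orderOf y := by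
      have h7 : ∀ x : adj K y hy ⧸ (Subgroup.inclusion (le_adj hy)).range,
          x ∈ Subgroup.zpowers (QuotientGroup.mk ⟨y, self_mem_adj hy⟩ :
            adj K y hy ⧸ (Subgroup.inclusion (le_adj hy)).range) := by
        intro x
        obtain ⟨g, rfl⟩ := QuotientGroup.mk_surjective x
        exact zpow_mk hy g
      rw [← orderOf_eq_card_of_forall_mem_zpowers h7]
      have h8 : orderOf (⟨y, self_mem_adj hy⟩ : adj K y hy) = orderOf y :=
        Subgroup.orderOf_mk y (self_mem_adj hy)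
      rw [← h8]
      exact orderOf_map_dvd (QuotientGroup.mk' _) _
    exact h2 (h5.trans h6)
  · exact h1 h5

/-- every element of `K⟨y⟩` fixes a character fixed by `y` -/
theorem fix_adj [Finite Γ] {τ : K → ℂ} (hτ : IsClassFunction K τ) (hf : Fix K.subtype τ y)
    {g : Γ} (hg : g ∈ adj K y hy) : Fix K.subtype τ g := by
  obtain ⟨k, hk, n, rfl⟩ := hg
  exact (Fix.of_mem (i := K.subtype) Subtype.val_injective hτ ⟨k, hk⟩).mul
    (hf.zpow Subtype.val_injective n)

end adj

end Cfsg.Agent.H676.RM.Adj
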