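import Mathlib

/-!
# A commuting group of endomorphisms acting irreducibly on a finite abelian group is cyclic
-/

set_option autoImplicit false
set_option linter.style.haveILetI false

namespace Cfsg.Agent.H676.RM.Cyc

theorem exists_generator_add {V : Type*} [AddCommGroup V] [Finite V] {A : Type*} [Group A]
    [Finite A] (Φ : A →* AddMonoid.End V) (hcomm : ∀ a b, Φ a * Φ b = Φ b * Φ a)
    (hirr : ∀ W : AddSubgroup V, (∀ a, ∀ v ∈ W, Φ a v ∈ W) → W = ⊥ ∨ W = ⊤) :
    ∃ g : A, ∀ a, ∃ n : ℕ, Φ a = Φ g ^ n := by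
  classical
  by_cases hV : Subsingleton V
  · refine ⟨1, fun a => ⟨0, ?_⟩⟩
    ext v
    exact Subsingleton.elim _ _
  rw [not_subsingleton_iff_nontrivial] at hV
  let s : Set (AddMonoid.End V) := Set.range Φ
  have hs : ∀ x ∈ s, ∀ y ∈ s, x * y = y * x := by
    rintro _ ⟨a, rfl⟩ _ ⟨b, rfl⟩
    exact hcomm a b
  let R := Subring.closure s
  letI hR : CommRing R := Subring.closureCommRingOfComm hs
  have hcommR : ∀ x y : R, x * y = y * x := fun x y => mul_comm x y
  have hcommR' : ∀ x ∈ R, ∀ y ∈ R, x * y = y * x := fun x hx y hy =>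
    congrArg Subtype.val (hcommR ⟨x, hx⟩ ⟨y, hy⟩)
  have hmemR : ∀ a, Φ a ∈ R := fun a => Subring.subset_closure ⟨a, rfl⟩
  -- nonzero elements are injective
  have hinj : ∀ x ∈ R, x ≠ 0 → Function.Injective x := by
    intro x hx hx0
    let W : AddSubgroup V :=
      { carrier := {v | x v = 0}
        zero_mem' := map_zero x
        add_mem' := fun {a b} ha hb => by
          show x (a + b) = 0
          rw [map_add, show x a = 0 from ha, show x b = 0 from hb, add_zero]
        neg_mem' := fun {a} ha => by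
          show x (-a) = 0
          rw [map_neg, show x a = 0 from ha, neg_zero] }
    have hW : ∀ v, v ∈ W ↔ x v = 0 := fun v => Iff.rfl
    have h1 := hirr W (fun a v hv => by
      rw [hW] at hv ⊢
      have h2 := hcommR' x hx (Φ a) (hmemR a)
      have h3 : x (Φ a v) = Φ a (x v) := congrArg (fun f : AddMonoid.End V => f v) h2
      rw [h3, hv, map_zero])
    rcases h1 with h1 | h1
    · intro a b hab
      have h2 : a - b ∈ W := by
        rw [hW, map_sub, hab, sub_self]
      rw [h1, AddSubgroup.mem_bot] at h2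
      exact sub_eq_zero.1 h2
    · exfalso
      apply hx0
      ext v
      have : v ∈ W := by rw [h1]; trivial
      exact this
  have hdom : NoZeroDivisors R := by
    refine ⟨?_⟩
    rintro ⟨x, hx⟩ ⟨y, hy⟩ hxy
    by_cases hy0 : y = 0
    · right; exact Subtype.ext hy0
    · left
      apply Subtype.ext
      show x = 0
      have h1 := hinj y hy hy0
      have h2 : Function.Surjective y := Finite.injective_iff_surjective.1 h1
      have h3 : x * y = 0 := congrArg Subtype.val hxy
      ext v
      obtain ⟨u, rfl⟩ := h2 v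
      exact congrArg (fun f : AddMonoid.End V => f u) h3
  have hnt : Nontrivial R := by
    refine ⟨⟨0, 1, fun h => ?_⟩⟩
    have h1 : (0 : AddMonoid.End V) = 1 := congrArg Subtype.val h
    obtain ⟨v, hv⟩ := exists_ne (0 : V)
    apply hv
    have h2 := congrArg (fun f : AddMonoid.End V => f v) h1
    exact h2.symm
  haveI : IsDomain R := NoZeroDivisors.to_isDomain R
  let Ψ : A →* Rˣ := MonoidHom.toHomUnits
    { toFun := fun a => (⟨Φ a, hmemR a⟩ : R)
      map_one' := Subtype.ext (map_one Φ)
      map_mul' := fun a b => Subtype.ext (map_mul Φ a b) }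
  have hΨ : ∀ a, (((Ψ a : Rˣ) : R) : AddMonoid.End V) = Φ a := fun a => rfl
  have hfin : Finite Ψ.range := Finite.of_surjective Ψ.rangeRestrict Ψ.rangeRestrict_surjective
  haveI hcyc : IsCyclic Ψ.range := isCyclic_subgroup_units Ψ.range
  obtain ⟨⟨_, g, rfl⟩, hg⟩ := hcyc.exists_generator
  refine ⟨g, fun a => ?_⟩
  have h1 := hg ⟨Ψ a, a, rfl⟩
  rw [← mem_powers_iff_mem_zpowers] at h1
  obtain ⟨n, hn⟩ := h1
  refine ⟨n, ?_⟩
  have h2 : Ψ g ^ n = Ψ a := congrArg Subtype.val hn
  have h3 := congrArg (fun u : Rˣ => ((u : R) : AddMonoid.End V)) h2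
  simp only [Units.val_pow_eq_pow_val, SubmonoidClass.coe_pow, hΨ] at h3
  exact h3.symm

theorem exists_generator {Q : Type*} [Group Q] [Finite Q] (hQ : ∀ a b : Q, a * b = b * a)
    {A : Type*} [Group A]
    [Finite A] (Φ : A →* Monoid.End Q) (hcomm : ∀ a b, Φ a * Φ b = Φ b * Φ a)
    (hirr : ∀ W : Subgroup Q, (∀ a, ∀ v ∈ W, Φ a v ∈ W) → W = ⊥ ∨ W = ⊤) :
    ∃ g : A, ∀ a, ∃ n : ℕ, Φ a = Φ g ^ n := by
  letI : CommGroup Q := { ‹Group Q› with mul_comm := hQ }
  let Φ' : A →* AddMonoid.End (Additive Q) :=
    { toFun := fun a => MonoidHom.toAdditive (Φ a)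
      map_one' := by rw [map_one]; rfl
      map_mul' := fun a b => by rw [map_mul]; rfl }
  have hΦ' : ∀ a (v : Q), Φ' a (Additive.ofMul v) = Additive.ofMul (Φ a v) := fun a v => rfl
  obtain ⟨g, hg⟩ := exists_generator_add Φ' (fun a b => by
      rw [← map_mul, ← map_mul]
      ext v
      exact congrArg (fun f : Monoid.End Q => Additive.ofMul (f v.toMul))
        (show Φ (a * b) = Φ (b * a) by rw [map_mul, map_mul, hcomm])) (fun W hW => by
      have h1 := hirr (AddSubgroup.toSubgroup' W) (fun a v hv => hW a (Additive.ofMul v) hv)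
      rcases h1 with h1 | h1
      · left
        ext v
        constructor
        · intro hv
          have : v.toMul ∈ AddSubgroup.toSubgroup' W := hv
          rw [h1, Subgroup.mem_bot] at this
          rw [AddSubgroup.mem_bot]
          exact this
        · intro hv
          rw [AddSubgroup.mem_bot] at hv
          rw [hv]; exact W.zero_mem
      · right
        ext v
        constructor
        · intro _; trivial
        · intro _
          have : v.toMul ∈ AddSubgroup.toSubgroup' W := by rw [h1]; trivial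
          exact this)
  refine ⟨g, fun a => ?_⟩
  obtain ⟨n, hn⟩ := hg a
  refine ⟨n, ?_⟩
  rw [← map_pow] at hn ⊢
  ext v
  exact congrArg (fun f : AddMonoid.End (Additive Q) => (f (Additive.ofMul v)).toMul) hn

end Cfsg.Agent.H676.RM.Cyc
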