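import Mathlib
import Cfsg.Agent.H672.Lin
import Cfsg.Agent.H676.RM.Adj

/-!
# The pairing and the Glauberman correspondence: an element centralising the acting group

`step` : the `p`-group `S` acts on the `p'`-group `K` with fixed points `C`, `y` is a `p'`-element
commuting with `S`, `x` normalises `S`, and `⁅x, y⁆ ∈ C`. Then the pairings of `τ` and of its correspondent
agree at `x`, `y`.
-/

set_option autoImplicit false
set_option linter.style.haveILetI false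

namespace Cfsg.Agent.H676.RM.Step

open Cfsg Module Cfsg.Agent.H676.RM.Pair Cfsg.Agent.H676.RM.PairChar Cfsg.Agent.H676.RM.Star
open Cfsg.Agent.Characters.Core Cfsg.Agent.H672 Cfsg.Agent.H676.RM.Adj
open scoped commutatorElement ComplexConjugate

variable {Γ : Type*} [Group Γ] [Finite Γ] {p : ℕ} {K S C : Subgroup Γ}

theorem mem_normalizer_of_conj {y : Γ} (h : ∀ g ∈ K, y * g * y⁻¹ ∈ K) :
    y ∈ Subgroup.normalizer (K : Set Γ) := by
  rw [Subgroup.mem_normalizer_iff]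
  intro g
  refine ⟨h g, fun hg => ?_⟩
  have h1 := nrm_inv (i := K.subtype) Subtype.val_injective (x := y)
    (fun n => ⟨⟨_, h n n.2⟩, rfl⟩) ⟨_, hg⟩
  obtain ⟨n', hn'⟩ := h1
  have h2 : (n' : Γ) = g := by
    have : (n' : Γ) = y⁻¹ * (y * g * y⁻¹) * y := hn'
    rw [this]; group
  rw [← h2]
  exact n'.2

omit [Finite Γ] in
theorem conj_mem_of_fix {τ : K → ℂ} {y : Γ} (h : Fix K.subtype τ y) : ∀ g ∈ K, y * g * y⁻¹ ∈ K := by
  intro g hg
  obtain ⟨n', hn'⟩ := h.nrm ⟨g, hg⟩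
  have : (n' : Γ) = y * g * y⁻¹ := hn'
  rw [← this]
  exact n'.2

omit [Finite Γ] in
theorem conj_mem_adj {y x : Γ} (hy : y ∈ Subgroup.normalizer (K : Set Γ))
    (hxK : ∀ g ∈ K, x * g * x⁻¹ ∈ K) (hxy : x * y * x⁻¹ ∈ adj K y hy) :
    ∀ g ∈ adj K y hy, x * g * x⁻¹ ∈ adj K y hy := by
  rintro _ ⟨k, hk, n, rfl⟩
  have : x * (k * y ^ n) * x⁻¹ = (x * k * x⁻¹) * (x * y * x⁻¹) ^ n := by
    rw [conj_zpow]; group
  rw [this]
  exact Subgroup.mul_mem _ (le_adj hy (hxK k hk)) (Subgroup.zpow_mem _ hxy n)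

theorem root_eq_one [Fact p.Prime] {w : ℂ} {a b k : ℕ} (ha : a = p ^ k) (hb : ¬ p ∣ b)
    (h1 : w ^ a = 1) (h2 : w ^ b = 1) : w = 1 := by
  have h3 : orderOf w ∣ a := orderOf_dvd_of_pow_eq_one h1
  have h4 : orderOf w ∣ b := orderOf_dvd_of_pow_eq_one h2
  have h5 : a.Coprime b := by
    rw [ha]
    exact Nat.Coprime.pow_left k (((Fact.out : p.Prime).coprime_iff_not_dvd).2 hb)
  have h6 : orderOf w ∣ 1 := by
    have := Nat.dvd_gcd h3 h4
    rwa [h5] at this
  rw [← orderOf_eq_one_iff]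
  exact Nat.dvd_one.1 h6

theorem step [Fact p.Prime] (h : Cop p K S C) {x y : Γ}
    (hy : ¬ p ∣ orderOf y) (hyS : ∀ s ∈ S, s * y = y * s)
    (hxS : ∀ s ∈ S, x⁻¹ * s * x ∈ S) (hc : ⁅x, y⁆ ∈ C) {τ : K → ℂ} (hτ : IsIrrCharacter K τ)
    (hτS : SInv S K τ) (hτx : Fix K.subtype τ x) (hτy : Fix K.subtype τ y) {β : C → ℂ}
    (hβ : IsIrrCharacter C β) (hP : PP p (Subgroup.inclusion h.le) τ β) :
    ∃ w, WC K.subtype τ x y w ∧ WC C.subtype β x y w := by
  have hp : p.Prime := Fact.out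
  have hyK := conj_mem_of_fix hτy
  have hxK := conj_mem_of_fix hτx
  have hyN : y ∈ Subgroup.normalizer (K : Set Γ) := mem_normalizer_of_conj hyK
  have hyCc : ∀ g ∈ C, y * g * y⁻¹ ∈ C := h.nrm_C hyK (fun s hs => by
    rw [mul_assoc, hyS s hs, inv_mul_cancel_left]; exact hs)
  have hyC : y ∈ Subgroup.normalizer (C : Set Γ) := mem_normalizer_of_conj hyCc
  have hxCc : ∀ g ∈ C, x * g * x⁻¹ ∈ C := h.nrm_C hxK hxS
  have hfx : Fix C.subtype β x := fix_star h hτ hτS hβ hP hτx hxCc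
  have hfy : Fix C.subtype β y := fix_star h hτ hτS hβ hP hτy hyCc
  -- the bigger groups
  have h' : Cop p (adj K y hyN) S (adj C y hyC) := by
    refine ⟨?_, not_dvd_card hyN hp h.ndvd hy, h.pS, ?_⟩
    · rintro s hs _ ⟨k, hk, n, rfl⟩
      refine ⟨s * k * s⁻¹, h.nrm s hs k hk, n, ?_⟩
      have h1 : Commute s (y ^ n) := Commute.zpow_right (hyS s hs) n
      calc s * (k * y ^ n) * s⁻¹ = s * k * (y ^ n * s⁻¹) := by group
        _ = s * k * (s⁻¹ * y ^ n) := by rw [h1.inv_left.eq]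
        _ = s * k * s⁻¹ * y ^ n := by group
    · ext g
      rw [Subgroup.mem_inf, Subgroup.mem_centralizer_iff]
      constructor
      · rintro ⟨k, hk, n, rfl⟩
        refine ⟨⟨k, h.le hk, n, rfl⟩, fun s hs => ?_⟩
        have h1 : Commute s (y ^ n) := Commute.zpow_right (hyS s hs) n
        have h2 := (h.mem_iff.1 hk).2 s hs
        rw [← mul_assoc, h2, mul_assoc, h1.eq, mul_assoc]
      · rintro ⟨⟨k, hk, n, rfl⟩, hcomm⟩
        refine ⟨k, h.mem_iff.2 ⟨hk, fun s hs => ?_⟩, n, rfl⟩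
        have h1 : Commute s (y ^ n) := Commute.zpow_right (hyS s hs) n
        have h2 := hcomm s hs
        have h3 : s * k * y ^ n = k * s * y ^ n := by
          rw [mul_assoc, h2, mul_assoc, mul_assoc, h1.eq]
        exact mul_right_cancel h3
  -- the extension of τ
  have hmi : Function.Injective (Subgroup.inclusion (le_adj hyN)) := Subgroup.inclusion_injective _
  have hmiC : Function.Injective (Subgroup.inclusion (le_adj hyC)) := Subgroup.inclusion_injective _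
  obtain ⟨η, hη, hητ⟩ := exists_ext (Subgroup.inclusion (le_adj hyN)) hmi (range_normal hyN)
    (range_cyclic hyN) hτ (fun g a a' haa => (fix_adj hyN (isIrr_isClassFunction hτ) hτy
      g.2).inv a a' (congrArg Subtype.val haa))
  have hημ : IsIrrCharacter K (η ∘ Subgroup.inclusion (le_adj hyN)) := by rw [hητ]; exact hτ
  -- S-invariance of η
  have hηS : SInv S (adj K y hyN) η := by
    intro s hs
    have hfs : Fix K.subtype τ s :=
      ⟨fun n => ⟨⟨_, h.nrm s hs n n.2⟩, rfl⟩, fun n n' hn => hτS s hs n n' hn⟩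
    obtain ⟨c, hc1, hc2, hc3⟩ := ext_relC (Subgroup.inclusion (le_adj hyN)) (adj K y hyN).subtype
      Subtype.val_injective (range_normal hyN) hmi hη hημ (x := s)
      (fun k => ⟨⟨_, h'.nrm s hs k k.2⟩, rfl⟩) (by rw [hητ]; exact hfs)
    have hsy : ⁅s, y⁆ = 1 := commutatorElement_eq_one_iff_mul_comm.2 (hyS s hs)
    have h1 := hc3 ⟨y, self_mem_adj hyN⟩ ⟨1, by
      show ((Subgroup.inclusion (le_adj hyN) 1 : adj K y hyN) : Γ) = ⁅s, y⁆
      rw [hsy, map_one]; rfl⟩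
    rw [hητ] at h1
    have h2 : WC K.subtype τ s y ((c ⟨y, self_mem_adj hyN⟩ : ℂ)⁻¹) := h1
    have h3 := WC.npow_left (i := K.subtype) Subtype.val_injective hτy h2 (orderOf s)
    rw [pow_orderOf_eq_one] at h3
    have h4 := h3.unique Subtype.val_injective
      (WC_of_mem (i := K.subtype) Subtype.val_injective hτ 1 hτy)
    have h5 := WC.npow_right (i := K.subtype) Subtype.val_injective hfs h2 (orderOf y)
    rw [pow_orderOf_eq_one] at h5
    have h6 := h5.unique Subtype.val_injective (by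
      have := (WC_of_mem (i := K.subtype) Subtype.val_injective hτ 1 hfs).symm
      rwa [inv_one] at this)
    obtain ⟨k, hk⟩ := (IsPGroup.iff_orderOf.1 h.pS) ⟨s, hs⟩
    rw [Subgroup.orderOf_mk] at hk
    have h7 := root_eq_one hk hy h4 h6
    have h8 : c ⟨y, self_mem_adj hyN⟩ = 1 := by
      apply Units.ext
      rw [Units.val_one, ← inv_inv (c ⟨y, self_mem_adj hyN⟩ : ℂ), h7, inv_one]
    have h9 : ∀ g : adj K y hyN, c g = 1 := by
      rintro ⟨_, k, hk, n, rfl⟩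
      have e1 : (⟨k * y ^ n, ⟨k, hk, n, rfl⟩⟩ : adj K y hyN) =
          Subgroup.inclusion (le_adj hyN) ⟨k, hk⟩ * ⟨y, self_mem_adj hyN⟩ ^ n := by
        apply Subtype.ext
        rw [Subgroup.coe_mul, Subgroup.coe_zpow]
        rfl
      rw [e1, map_mul, hc1, one_mul, map_zpow, h8, one_zpow]
    intro g g' hg
    rw [hc2 g g' hg, h9, Units.val_one, one_mul]
  -- the correspondent of η
  obtain ⟨ζ, hζ, hηζ, hu⟩ := star h' hη hηS
  have hPm : PP p (Subgroup.inclusion (le_adj hyC)) ζ β := by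
    rw [← PP_comp_iff hp (Subgroup.inclusion h'.le) (Subgroup.inclusion (le_adj hyC))
      (isIrr_isCharacter hη) hβ hζ hηζ hu]
    obtain ⟨m, hm, hpm⟩ := hP
    refine ⟨m, ?_, hpm⟩
    rw [← hm]
    have e1 : η ∘ ((Subgroup.inclusion h'.le).comp (Subgroup.inclusion (le_adj hyC))) =
        τ ∘ (Subgroup.inclusion h.le) := by
      rw [← hητ]; rfl
    unfold mu
    rw [e1]
  have hζβ : ζ ∘ (Subgroup.inclusion (le_adj hyC)) = β :=
    comp_eq_of_cyclic _ hmiC (range_normal hyC) (range_cyclic hyC) hβ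
      (fun g a a' haa => (fix_adj hyC (isIrr_isClassFunction hβ) hfy g.2).inv a a'
        (congrArg Subtype.val haa)) hζ hPm.over
  have hζμ : IsIrrCharacter C (ζ ∘ Subgroup.inclusion (le_adj hyC)) := by rw [hζβ]; exact hβ
  -- x normalises the bigger groups
  have hxy : x * y * x⁻¹ = ⁅x, y⁆ * y := by rw [commutatorElement_def]; group
  have hxK' := conj_mem_adj hyN hxK (by
    rw [hxy]; exact Subgroup.mul_mem _ (le_adj hyN (h.le hc)) (self_mem_adj hyN))
  have hxC' := conj_mem_adj hyC hxCc (by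
    rw [hxy]; exact Subgroup.mul_mem _ (le_adj hyC hc) (self_mem_adj hyC))
  obtain ⟨c, hc1, hc2, hc3⟩ := ext_relC (Subgroup.inclusion (le_adj hyN)) (adj K y hyN).subtype
      Subtype.val_injective (range_normal hyN) hmi hη hημ (x := x)
      (fun k => ⟨⟨_, hxK' k k.2⟩, rfl⟩) (by rw [hητ]; exact hτx)
  obtain ⟨d, hd1, hd2, hd3⟩ := ext_relC (Subgroup.inclusion (le_adj hyC)) (adj C y hyC).subtype
      Subtype.val_injective (range_normal hyC) hmiC hζ hζμ (x := x)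
      (fun k => ⟨⟨_, hxC' k k.2⟩, rfl⟩) (by rw [hζβ]; exact hfx)
  have hw1 : WC K.subtype τ x y ((c ⟨y, self_mem_adj hyN⟩ : ℂ)⁻¹) := by
    have := hc3 ⟨y, self_mem_adj hyN⟩ ⟨⟨⁅x, y⁆, h.le hc⟩, rfl⟩
    rwa [hητ] at this
  have hw2 : WC C.subtype β x y ((d ⟨y, self_mem_adj hyC⟩ : ℂ)⁻¹) := by
    have := hd3 ⟨y, self_mem_adj hyC⟩ ⟨⟨⁅x, y⁆, hc⟩, rfl⟩
    rwa [hζβ] at this
  -- comparison
  let l : adj C y hyC →* ℂˣ := c.comp (Subgroup.inclusion h'.le)
  have hcη : IsIrrCharacter (adj K y hyN) (fun g => (c g : ℂ) * η g) := isIrr_mul_lf c hη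
  have hcS : SInv S (adj K y hyN) (fun g => (c g : ℂ) * η g) := by
    intro s hs g g' hg
    have e1 : c g' = c g := by
      obtain ⟨_, k, hk, n, rfl⟩ := g
      have hg' : g' = Subgroup.inclusion (le_adj hyN) ⟨s * k * s⁻¹, h.nrm s hs k hk⟩ *
          ⟨y, self_mem_adj hyN⟩ ^ n := by
        apply Subtype.ext
        rw [hg, Subgroup.coe_mul, Subgroup.coe_zpow]
        have h1 : Commute s (y ^ n) := Commute.zpow_right (hyS s hs) n
        show s * (k * y ^ n) * s⁻¹ = s * k * s⁻¹ * y ^ n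
        calc s * (k * y ^ n) * s⁻¹ = s * k * (y ^ n * s⁻¹) := by group
          _ = s * k * (s⁻¹ * y ^ n) := by rw [h1.inv_left.eq]
          _ = s * k * s⁻¹ * y ^ n := by group
      have hg2 : (⟨k * y ^ n, ⟨k, hk, n, rfl⟩⟩ : adj K y hyN) =
          Subgroup.inclusion (le_adj hyN) ⟨k, hk⟩ * ⟨y, self_mem_adj hyN⟩ ^ n := by
        apply Subtype.ext
        rw [Subgroup.coe_mul, Subgroup.coe_zpow]
        rfl
      rw [hg', hg2, map_mul, map_mul, hc1, hc1]
    show (c g' : ℂ) * η g' = (c g : ℂ) * η g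
    rw [e1, hηS s hs g g' hg]
  obtain ⟨ζ0, -, -, hu0⟩ := star h' hcη hcS
  have e1 : (fun g => (l g : ℂ) * ζ g) = ζ0 := by
    refine hu0 _ (isIrr_mul_lf l hζ) ?_
    obtain ⟨m, hm, hpm⟩ := hηζ
    refine ⟨m, ?_, hpm⟩
    rw [← hm]
    letI := Fintype.ofFinite (adj C y hyC)
    rw [mu_eq, mu_eq, classInner_def, classInner_def]
    congr 1
    refine Finset.sum_congr rfl fun g _ => ?_
    show (c (Subgroup.inclusion h'.le g) : ℂ) * η (Subgroup.inclusion h'.le g) *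
      conj ((c (Subgroup.inclusion h'.le g) : ℂ) * ζ g) = η (Subgroup.inclusion h'.le g) * conj (ζ g)
    have h1 := lf_mul_conj c (Subgroup.inclusion h'.le g)
    rw [map_mul]
    linear_combination (η (Subgroup.inclusion h'.le g) * conj (ζ g)) * h1
  have e2 : (fun g => (d g : ℂ) * ζ g) = ζ0 := by
    refine hu0 _ (isIrr_mul_lf d hζ) ?_
    obtain ⟨m, hm, hpm⟩ := hηζ
    refine ⟨m, ?_, hpm⟩
    rw [← hm]
    exact (mu_conj h'.le hxC' (fun g g' hg => hc2 g g' hg) (fun g g' hg => hd2 g g' hg)).symm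
  obtain ⟨a, ha⟩ := exists_ne_zero (Subgroup.inclusion (le_adj hyC)) hmiC (range_normal hyC) hζ hζμ
    ⟨y, self_mem_adj hyC⟩
  have e3 := congrFun (e1.trans e2.symm) (Subgroup.inclusion (le_adj hyC) a *
    ⟨y, self_mem_adj hyC⟩)
  have e4 := mul_right_cancel₀ ha e3
  rw [map_mul, map_mul, hd1, one_mul] at e4
  have e5 : l (Subgroup.inclusion (le_adj hyC) a) = 1 := hc1 ⟨a, h.le a.2⟩
  rw [e5, one_mul] at e4
  have e6 : (c ⟨y, self_mem_adj hyN⟩ : ℂ) = (d ⟨y, self_mem_adj hyC⟩ : ℂ) := e4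
  refine ⟨_, hw1, ?_⟩
  rw [e6]
  exact hw2

end Cfsg.Agent.H676.RM.Step
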