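import Mathlib
import Cfsg.Agent.S0022
import Cfsg.Agent.H676.RM.Cyc
import Cfsg.Agent.H676.RM.Step

/-!
# The pairing of a character and of its Glauberman correspondent agree

`chain` : the `p`-group `S` acts on the `p'`-group `K` with fixed points `C`, `A` is a `p'`-group
normalising `K` and `S` with `⁅A, A⁆ ≤ C` and fixing `τ`. Then for `a, b ∈ A` the pairings of `τ` and of its
correspondent `β` at `a`, `b` are equal.
-/

set_option autoImplicit false
set_option linter.style.haveILetI false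

namespace Cfsg.Agent.H676.RM.Chain

open Cfsg Module Cfsg.Agent.H676.RM.Pair Cfsg.Agent.H676.RM.PairChar Cfsg.Agent.H676.RM.Star
open Cfsg.Agent.Characters.Core Cfsg.Agent.H672 Cfsg.Agent.H676.RM.Adj Cfsg.Agent.H676.RM.Step
open scoped commutatorElement ComplexConjugate

variable {Γ : Type*} [Group Γ] [Finite Γ] {p : ℕ}

omit [Finite Γ] in
/-- The induced endomorphisms of `S / S1`. -/
theorem exists_action (S S1 A : Subgroup Γ)
    (hn : ∀ s ∈ S, ∀ t ∈ S1, s * t * s⁻¹ ∈ S1)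
    (hAS : ∀ a ∈ A, ∀ s ∈ S, a * s * a⁻¹ ∈ S) (hAS1 : ∀ a ∈ A, ∀ s ∈ S1, a * s * a⁻¹ ∈ S1) :
    ∃ (_ : (S1.subgroupOf S).Normal) (Φ : A →* Monoid.End (S ⧸ S1.subgroupOf S)),
      ∀ (a : A) (s s' : S), (s' : Γ) = a * s * (a : Γ)⁻¹ →
        Φ a (QuotientGroup.mk s) = QuotientGroup.mk s' := by
  have hN : (S1.subgroupOf S).Normal := by
    refine ⟨fun n hn' g => ?_⟩
    rw [Subgroup.mem_subgroupOf] at hn' ⊢
    exact hn g g.2 _ hn'
  let f : A → (S →* S) := fun a =>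
    { toFun := fun s => ⟨a * s * (a : Γ)⁻¹, hAS a a.2 s s.2⟩
      map_one' := Subtype.ext (by simp)
      map_mul' := fun s t => Subtype.ext (by
        show (a : Γ) * (s * t : S) * (a : Γ)⁻¹ = (a * s * (a : Γ)⁻¹) * (a * t * (a : Γ)⁻¹)
        rw [Subgroup.coe_mul]; group) }
  have hf : ∀ a, S1.subgroupOf S ≤ (S1.subgroupOf S).comap (f a) := by
    intro a s hs
    rw [Subgroup.mem_subgroupOf] at hs
    rw [Subgroup.mem_comap, Subgroup.mem_subgroupOf]
    exact hAS1 a a.2 _ hs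
  let F : A → ((S ⧸ S1.subgroupOf S) →* (S ⧸ S1.subgroupOf S)) := fun a =>
    QuotientGroup.map _ _ (f a) (hf a)
  have hF : ∀ (a : A) (s : S), F a (QuotientGroup.mk s) = QuotientGroup.mk (f a s) :=
    fun a s => rfl
  have h1 : F 1 = MonoidHom.id _ := by
    refine MonoidHom.ext fun x => ?_
    obtain ⟨s, rfl⟩ := QuotientGroup.mk_surjective x
    rw [hF, MonoidHom.id_apply]
    congr 1
    apply Subtype.ext
    show ((1 : A) : Γ) * s * ((1 : A) : Γ)⁻¹ = s
    simp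
  have h2 : ∀ a b, F (a * b) = (F a).comp (F b) := by
    intro a b
    refine MonoidHom.ext fun x => ?_
    obtain ⟨s, rfl⟩ := QuotientGroup.mk_surjective x
    rw [MonoidHom.comp_apply, hF, hF, hF]
    congr 1
    apply Subtype.ext
    show ((a * b : A) : Γ) * s * ((a * b : A) : Γ)⁻¹ = a * (b * s * (b : Γ)⁻¹) * (a : Γ)⁻¹
    rw [Subgroup.coe_mul]; group
  refine ⟨hN, ⟨⟨fun a => (F a : Monoid.End (S ⧸ S1.subgroupOf S)), h1⟩, h2⟩, ?_⟩
  intro a s s' hs
  show F a (QuotientGroup.mk s) = _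
  rw [hF]
  congr 1
  exact Subtype.ext hs.symm

/-- one step of the chain: elements acting trivially on `S / S1` -/
theorem agree_of_trivial [Fact p.Prime] {C1 S S1 C : Subgroup Γ} (h : Cop p C1 S C)
    (hS1S : S1 ≤ S) (hn : ∀ s ∈ S, ∀ t ∈ S1, s * t * s⁻¹ ∈ S1)
    (hC1 : ∀ g ∈ C1, ∀ s ∈ S1, s * g = g * s) {τ : C1 → ℂ} (hτ : IsIrrCharacter C1 τ)
    (hτS : SInv S C1 τ) {β : C → ℂ} (hβ : IsIrrCharacter C β)
    (hP : PP p (Subgroup.inclusion h.le) τ β) {a b : Γ} (hb : ¬ p ∣ orderOf b)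
    (haS : ∀ s ∈ S, a⁻¹ * s * a ∈ S)
    (hbS : ∀ s ∈ S, b * s * b⁻¹ ∈ S) (hbS1 : ∀ s ∈ S1, b * s * b⁻¹ ∈ S1)
    (htriv : ∀ n : ℤ, ∀ s ∈ S, b ^ n * s * (b ^ n)⁻¹ * s⁻¹ ∈ S1) (hab : ⁅a, b⁆ ∈ C)
    (ha : Fix C1.subtype τ a) (hb' : Fix C1.subtype τ b) :
    ∃ w, WC C1.subtype τ a b w ∧ WC C.subtype β a b w := by
  have hcoprime : (Nat.card (Subgroup.zpowers b)).Coprime (Nat.card S) := by
    obtain ⟨n, hn⟩ := IsPGroup.iff_card.1 h.pS
    rw [hn, Nat.card_zpowers]
    exact (Nat.Coprime.pow_left n (((Fact.out : p.Prime).coprime_iff_not_dvd).2 hb)).symm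
  have hle1 : Subgroup.zpowers b ≤ Subgroup.normalizer (S : Set Γ) := by
    rw [Subgroup.zpowers_le]; exact mem_normalizer_of_conj hbS
  have hle2 : Subgroup.zpowers b ≤ Subgroup.normalizer (S1 : Set Γ) := by
    rw [Subgroup.zpowers_le]; exact mem_normalizer_of_conj hbS1
  have hle3 : S ≤ Subgroup.normalizer (S1 : Set Γ) := fun s hs =>
    mem_normalizer_of_conj (hn s hs)
  have hsolv : Group.IsSolvable (Subgroup.zpowers b) ∨ Group.IsSolvable S := by
    right
    have : Group.IsNilpotent S := h.pS.isNilpotent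
    infer_instance
  have hsplit : ∀ s ∈ S, ∃ c ∈ S ⊓ Subgroup.centralizer (Subgroup.zpowers b : Set Γ),
      s⁻¹ * c ∈ S1 := by
    intro s hs
    refine Cfsg.Agent.S0022.result (Subgroup.zpowers b) S hle1 hcoprime hsolv S1 hS1S hle3 hle2 s hs
      ?_
    rintro _ ⟨n, rfl⟩
    exact htriv n s hs
  let S2 : Subgroup Γ := S ⊓ Subgroup.centralizer ({b} : Set Γ)
  have hS2 : ∀ s, s ∈ S2 ↔ s ∈ S ∧ s * b = b * s := by
    intro s
    show s ∈ S ⊓ Subgroup.centralizer ({b} : Set Γ) ↔ _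
    rw [Subgroup.mem_inf, Subgroup.mem_centralizer_iff]
    simp only [Set.mem_singleton_iff, forall_eq]
    exact ⟨fun h => ⟨h.1, h.2.symm⟩, fun h => ⟨h.1, h.2.symm⟩⟩
  have h2 : Cop p C1 S2 C := by
    refine ⟨fun s hs => h.nrm s ((hS2 s).1 hs).1, h.ndvd, h.pS.to_le inf_le_left, ?_⟩
    ext g
    rw [Subgroup.mem_inf, Subgroup.mem_centralizer_iff]
    constructor
    · intro hg
      exact ⟨h.le hg, fun s hs => (h.mem_iff.1 hg).2 s ((hS2 s).1 hs).1⟩
    · rintro ⟨hg1, hg2⟩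
      refine h.mem_iff.2 ⟨hg1, fun s hs => ?_⟩
      obtain ⟨c, hc, hsc⟩ := hsplit s hs
      have hcb : c * b = b * c := by
        have := (Subgroup.mem_centralizer_iff.1 hc.2) b (Subgroup.mem_zpowers b)
        exact this.symm
      have h3 : c * g = g * c := hg2 c ((hS2 c).2 ⟨hc.1, hcb⟩)
      have h4 : (s⁻¹ * c) * g = g * (s⁻¹ * c) := hC1 g hg1 _ hsc
      have h5 : s⁻¹ * g * c = g * s⁻¹ * c := by
        rw [mul_assoc, ← h3, ← mul_assoc, h4, mul_assoc]
      have h6 : s⁻¹ * g = g * s⁻¹ := mul_right_cancel h5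
      calc s * g = s * (g * s⁻¹) * s := by group
        _ = s * (s⁻¹ * g) * s := by rw [h6]
        _ = g * s := by group
  have hP2 : PP p (Subgroup.inclusion h2.le) τ β := hP
  have habS : ∀ s ∈ S, s * ⁅a, b⁆ = ⁅a, b⁆ * s := (h.mem_iff.1 hab).2
  refine step h2 hb (fun s hs => ((hS2 s).1 hs).2) ?_ hab hτ (fun s hs => hτS s ((hS2 s).1 hs).1)
    ha hb' hβ hP2
  intro s hs
  obtain ⟨hs1, hs2⟩ := (hS2 s).1 hs
  refine (hS2 _).2 ⟨haS s hs1, ?_⟩
  -- `a⁻¹ s a` commutes with `b` iff `s` commutes with `a b a⁻¹ = ⁅a, b⁆ b`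
  have h3 : s * (⁅a, b⁆ * b) = (⁅a, b⁆ * b) * s := by
    rw [← mul_assoc, habS s hs1, mul_assoc, hs2, mul_assoc]
  have h4 : a * b * a⁻¹ = ⁅a, b⁆ * b := by rw [commutatorElement_def]; group
  rw [← h4] at h3
  calc a⁻¹ * s * a * b = a⁻¹ * (s * (a * b * a⁻¹)) * a := by group
    _ = a⁻¹ * ((a * b * a⁻¹) * s) * a := by rw [h3]
    _ = b * (a⁻¹ * s * a) := by group

theorem chain [Fact p.Prime] {K : Subgroup Γ} (A : Subgroup Γ) (hAp : ∀ a ∈ A, ¬ p ∣ orderOf a)
    {τ : K → ℂ} (hτ : IsIrrCharacter K τ) (hAτ : ∀ a ∈ A, Fix K.subtype τ a) (n : ℕ) :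
    ∀ S C : Subgroup Γ, Nat.card S ≤ n → ∀ h : Cop p K S C, SInv S K τ →
      (∀ a ∈ A, ∀ s ∈ S, a * s * a⁻¹ ∈ S) → (∀ a ∈ A, ∀ b ∈ A, ⁅a, b⁆ ∈ C) →
      ∀ β : C → ℂ, IsIrrCharacter C β → PP p (Subgroup.inclusion h.le) τ β →
      ∀ a ∈ A, ∀ b ∈ A, ∃ w, WC K.subtype τ a b w ∧ WC C.subtype β a b w := by
  have hp : p.Prime := Fact.out
  induction n with
  | zero =>
    intro S C hcard
    exact absurd hcard (by have := Nat.card_pos (α := S); omega)
  | succ n ih =>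
    intro S C hcard h hτS hAS hcomm β hβ hP a ha b hb
    by_cases hS : S = ⊥
    · -- trivial group
      have hCK : C = K := by
        rw [h.eq, hS]
        refine inf_eq_left.2 fun g _ => ?_
        rw [Subgroup.mem_centralizer_iff]
        intro s hs
        rw [Subgroup.mem_bot.1 hs, one_mul, mul_one]
      subst hCK
      have hβτ : β = τ := by
        have h1 := hP.over
        letI := Fintype.ofFinite C
        rw [over_iff] at h1
        by_contra hne
        exact h1 (classInner_irr_ne hτ hβ (Ne.symm hne))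
      subst hβτ
      obtain ⟨w, hw⟩ := exists_WC (i := C.subtype) Subtype.val_injective hβ (hAτ a ha) (hAτ b hb)
        (c := ⟨⁅a, b⁆, hcomm a ha b hb⟩) rfl
      exact ⟨w, hw, hw⟩
    -- choose `S1`
    let P : Subgroup Γ → Prop := fun T => T < S ∧ (∀ s ∈ S, ∀ t ∈ T, s * t * s⁻¹ ∈ T) ∧
      (∀ a ∈ A, ∀ t ∈ T, a * t * a⁻¹ ∈ T)
    have hPbot : P ⊥ := by
      refine ⟨bot_lt_iff_ne_bot.2 hS, fun s _ t ht => ?_, fun a _ t ht => ?_⟩
      · rw [Subgroup.mem_bot.1 ht]; simp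
      · rw [Subgroup.mem_bot.1 ht]; simp
    obtain ⟨⟨S1, hS1⟩, hmax⟩ : ∃ T : {T : Subgroup Γ // P T}, ∀ T' : {T : Subgroup Γ // P T},
        Nat.card T'.1 ≤ Nat.card T.1 := by
      have : Nonempty {T : Subgroup Γ // P T} := ⟨⟨⊥, hPbot⟩⟩
      exact Finite.exists_max (fun T : {T : Subgroup Γ // P T} => Nat.card T.1)
    obtain ⟨hlt, hS1S, hS1A⟩ := hS1
    have hmax' : ∀ T, S1 ≤ T → P T → T = S1 := fun T hT hPT =>
      (Subgroup.eq_of_le_of_card_ge hT (hmax ⟨T, hPT⟩)).symm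
    -- the group `C1`
    let C1 : Subgroup Γ := K ⊓ Subgroup.centralizer (S1 : Set Γ)
    have h1 : Cop p K S1 C1 := ⟨fun s hs => h.nrm s (hlt.le hs), h.ndvd, h.pS.to_le hlt.le, rfl⟩
    have hCC1 : C ≤ C1 := by
      intro g hg
      obtain ⟨hg1, hg2⟩ := h.mem_iff.1 hg
      exact h1.mem_iff.2 ⟨hg1, fun s hs => hg2 s (hlt.le hs)⟩
    have hcard1 : Nat.card S1 ≤ n := by
      have : Nat.card S1 < Nat.card S := by
        refine lt_of_le_of_ne (Subgroup.card_le_of_le hlt.le) fun he => ?_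
        exact hlt.ne (Subgroup.eq_of_le_of_card_ge hlt.le he.ge)
      omega
    have hτS1 : SInv S1 K τ := fun s hs => hτS s (hlt.le hs)
    obtain ⟨τ1, hτ1, hPτ1, hu1⟩ := star h1 hτ hτS1
    have hih := ih S1 C1 hcard1 h1 hτS1 hS1A (fun a ha b hb => hCC1 (hcomm a ha b hb)) τ1 hτ1 hPτ1
    have hSK : ∀ s ∈ S, Fix K.subtype τ s := fun s hs =>
      ⟨fun n => ⟨⟨_, h.nrm s hs n n.2⟩, rfl⟩, fun n n' hn => hτS s hs n n' hn⟩
    have hS1S' : ∀ s ∈ S, ∀ t ∈ S1, s⁻¹ * t * s ∈ S1 := fun s hs t ht => by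
      have := hS1S s⁻¹ (S.inv_mem hs) t ht
      rwa [inv_inv] at this
    have hfixS : ∀ s ∈ S, Fix C1.subtype τ1 s := fun s hs =>
      fix_star h1 hτ hτS1 hτ1 hPτ1 (hSK s hs) (h1.nrm_C (h.nrm s hs) (hS1S' s hs))
    have hAK : ∀ a ∈ A, ∀ g ∈ K, a * g * a⁻¹ ∈ K := fun a ha => conj_mem_of_fix (hAτ a ha)
    have hfixA : ∀ a ∈ A, Fix C1.subtype τ1 a := fun a ha =>
      fix_star h1 hτ hτS1 hτ1 hPτ1 (hAτ a ha) (h1.nrm_C (hAK a ha) (fun t ht => by
        have := hS1A a⁻¹ (A.inv_mem ha) t ht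
        rwa [inv_inv] at this))
    have h2 : Cop p C1 S C := by
      refine ⟨fun s hs => conj_mem_of_fix (hfixS s hs), fun hd => h.ndvd (hd.trans
        (Subgroup.card_dvd_of_le h1.le)), h.pS, ?_⟩
      ext g
      rw [Subgroup.mem_inf, Subgroup.mem_centralizer_iff]
      constructor
      · intro hg
        exact ⟨hCC1 hg, (h.mem_iff.1 hg).2⟩
      · rintro ⟨hg1, hg2⟩
        exact h.mem_iff.2 ⟨h1.le hg1, hg2⟩
    have hτ1S : SInv S C1 τ1 := fun s hs g g' hg => (hfixS s hs).inv g g' hg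
    have hP1 : PP p (Subgroup.inclusion h2.le) τ1 β := by
      rw [← PP_comp_iff hp (Subgroup.inclusion h1.le) (Subgroup.inclusion h2.le)
        (isIrr_isCharacter hτ) hβ hτ1 hPτ1 hu1]
      exact hP
    have hfixAC : ∀ a ∈ A, Fix C.subtype β a := fun a ha =>
      fix_star h2 hτ1 hτ1S hβ hP1 (hfixA a ha) (h2.nrm_C (conj_mem_of_fix (hfixA a ha))
        (fun t ht => by
          have := hAS a⁻¹ (A.inv_mem ha) t ht
          rwa [inv_inv] at this))
    -- it is enough to compare `τ1` and `β`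
    suffices hag : ∃ w, WC C1.subtype τ1 a b w ∧ WC C.subtype β a b w by
      obtain ⟨w, hw1, hw2⟩ := hag
      obtain ⟨w', hw3, hw4⟩ := hih a ha b hb
      have : w' = w := hw4.unique Subtype.val_injective hw1
      subst this
      exact ⟨w', hw3, hw2⟩
    -- the action on `S / S1`
    obtain ⟨hN, Φ, hΦ⟩ := exists_action S S1 A hS1S hAS hS1A
    have hPT : ∀ W : Subgroup (S ⧸ S1.subgroupOf S), W.Normal → (∀ a, ∀ v ∈ W, Φ a v ∈ W) →
        W = ⊥ ∨ W = ⊤ := by
      intro W hW hWA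
      let T : Subgroup Γ := (W.comap (QuotientGroup.mk' (S1.subgroupOf S))).map S.subtype
      have hT : ∀ g, g ∈ T ↔ ∃ hg : g ∈ S, (QuotientGroup.mk ⟨g, hg⟩ : S ⧸ S1.subgroupOf S) ∈ W := by
        intro g
        constructor
        · rintro ⟨s, hs, rfl⟩
          exact ⟨s.2, hs⟩
        · rintro ⟨hg, hgW⟩
          exact ⟨⟨g, hg⟩, hgW, rfl⟩
      have hS1T : S1 ≤ T := by
        intro g hg
        rw [hT]
        refine ⟨hlt.le hg, ?_⟩
        have : (QuotientGroup.mk ⟨g, hlt.le hg⟩ : S ⧸ S1.subgroupOf S) = 1 := by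
          rw [QuotientGroup.eq_one_iff, Subgroup.mem_subgroupOf]; exact hg
        rw [this]; exact W.one_mem
      have hTS : T ≤ S := fun g hg => ((hT g).1 hg).1
      by_cases hTe : T = S
      · right
        rw [eq_top_iff]
        intro x _
        obtain ⟨s, rfl⟩ := QuotientGroup.mk_surjective x
        have : (s : Γ) ∈ T := by rw [hTe]; exact s.2
        obtain ⟨hg, hgW⟩ := (hT _).1 this
        exact hgW
      · left
        have hTP : P T := by
          refine ⟨lt_of_le_of_ne hTS hTe, ?_, ?_⟩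
          · intro s hs t ht
            obtain ⟨htS, htW⟩ := (hT t).1 ht
            rw [hT]
            refine ⟨S.mul_mem (S.mul_mem hs htS) (S.inv_mem hs), ?_⟩
            have := hW.conj_mem _ htW (QuotientGroup.mk ⟨s, hs⟩)
            exact this
          · intro a ha t ht
            obtain ⟨htS, htW⟩ := (hT t).1 ht
            rw [hT]
            refine ⟨hAS a ha t htS, ?_⟩
            have := hWA ⟨a, ha⟩ _ htW
            rw [hΦ ⟨a, ha⟩ ⟨t, htS⟩ ⟨a * t * a⁻¹, hAS a ha t htS⟩ rfl] at this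
            exact this
        have hTS1 := hmax' T hS1T hTP
        rw [eq_bot_iff]
        intro x hx
        obtain ⟨s, rfl⟩ := QuotientGroup.mk_surjective x
        rw [Subgroup.mem_bot, QuotientGroup.eq_one_iff, Subgroup.mem_subgroupOf]
        rw [← hTS1, hT]
        exact ⟨s.2, hx⟩
    have hnt : Nontrivial (S ⧸ S1.subgroupOf S) := by
      by_contra hcon
      rw [not_nontrivial_iff_subsingleton] at hcon
      apply hlt.not_ge
      intro s hs
      have : (QuotientGroup.mk ⟨s, hs⟩ : S ⧸ S1.subgroupOf S) = 1 := Subsingleton.elim _ _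
      rw [QuotientGroup.eq_one_iff, Subgroup.mem_subgroupOf] at this
      exact this
    have hsolv : Group.IsSolvable (S ⧸ S1.subgroupOf S) := by
      have : Group.IsNilpotent S := h.pS.isNilpotent
      infer_instance
    have hcommQ : ∀ x y : S ⧸ S1.subgroupOf S, x * y = y * x := by
      have h3 := hPT (commutator (S ⧸ S1.subgroupOf S)) inferInstance (fun a v hv => by
        let φ : (S ⧸ S1.subgroupOf S) →* (S ⧸ S1.subgroupOf S) := Φ a
        have h4 : (commutator (S ⧸ S1.subgroupOf S)).map φ ≤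
            commutator (S ⧸ S1.subgroupOf S) := by
          rw [commutator_def, Subgroup.map_commutator]
          exact Subgroup.commutator_mono le_top le_top
        exact h4 ⟨v, hv, rfl⟩)
      have h4 : commutator (S ⧸ S1.subgroupOf S) = ⊥ := by
        refine h3.resolve_right fun h5 => ?_
        exact (Group.IsSolvable.commutator_lt_top_of_nontrivial (G := S ⧸ S1.subgroupOf S)).ne h5
      intro x y
      rw [← commutatorElement_eq_one_iff_mul_comm, ← Subgroup.mem_bot, ← h4]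
      exact Subgroup.commutator_mem_commutator (Subgroup.mem_top x) (Subgroup.mem_top y)
    have hΦcomm : ∀ a b, Φ a * Φ b = Φ b * Φ a := by
      intro a b
      rw [← map_mul, ← map_mul]
      refine MonoidHom.ext fun x => ?_
      obtain ⟨s, rfl⟩ := QuotientGroup.mk_surjective x
      refine (hΦ (a * b) s ⟨_, hAS _ (a * b).2 s s.2⟩ rfl).trans
        (Eq.trans ?_ (hΦ (b * a) s ⟨_, hAS _ (b * a).2 s s.2⟩ rfl).symm)
      congr 1
      apply Subtype.ext
      show ((a * b : A) : Γ) * s * ((a * b : A) : Γ)⁻¹ = ((b * a : A) : Γ) * s * ((b * a : A) : Γ)⁻¹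
      have h3 : ((a * b : A) : Γ) = ⁅(a : Γ), (b : Γ)⁆ * ((b * a : A) : Γ) := by
        rw [Subgroup.coe_mul, Subgroup.coe_mul, commutatorElement_def]; group
      have h4 := (h.mem_iff.1 (hcomm a a.2 b b.2)).2 _ (hAS _ (b * a).2 s s.2)
      rw [h3]
      calc ⁅(a : Γ), (b : Γ)⁆ * ((b * a : A) : Γ) * s * (⁅(a : Γ), (b : Γ)⁆ * ((b * a : A) : Γ))⁻¹
          = ⁅(a : Γ), (b : Γ)⁆ * (((b * a : A) : Γ) * s * ((b * a : A) : Γ)⁻¹) *
            ⁅(a : Γ), (b : Γ)⁆⁻¹ := by group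
        _ = (((b * a : A) : Γ) * s * ((b * a : A) : Γ)⁻¹) * ⁅(a : Γ), (b : Γ)⁆ *
            ⁅(a : Γ), (b : Γ)⁆⁻¹ := by rw [h4]
        _ = _ := by group
    obtain ⟨g, hg⟩ := Cyc.exists_generator hcommQ Φ hΦcomm (fun W hW =>
      hPT W ⟨fun n hn x => by rw [hcommQ x n, mul_inv_cancel_right]; exact hn⟩ hW)
    -- agreement with elements acting trivially
    have htrivB : ∀ c : A, Φ c = 1 → ∀ d ∈ A, ∃ w, WC C1.subtype τ1 d c w ∧ WC C.subtype β d c w := by
      intro c hc d hd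
      refine agree_of_trivial h2 hlt.le hS1S (fun g hg s hs => (h1.mem_iff.1 hg).2 s hs) hτ1 hτ1S hβ
        hP1 (hAp c c.2) (fun s hs => ?_) (hAS c c.2) (hS1A c c.2) ?_ (hcomm d hd c c.2)
        (hfixA d hd) (hfixA c c.2)
      · have := hAS d⁻¹ (A.inv_mem hd) s hs
        rwa [inv_inv] at this
      · intro n s hs
        have h3 : Φ (c ^ n) = 1 := by
          have h4 : c ^ n ∈ Subgroup.zpowers c := ⟨n, rfl⟩
          rw [← mem_powers_iff_mem_zpowers] at h4
          obtain ⟨m, hm⟩ := h4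
          have hm' : c ^ m = c ^ n := hm
          rw [← hm', map_pow, hc, one_pow]
        have h5 := hΦ (c ^ n) ⟨s, hs⟩ ⟨_, hAS _ (c ^ n).2 s hs⟩ rfl
        rw [h3] at h5
        have h6 : (QuotientGroup.mk ⟨s, hs⟩ : S ⧸ S1.subgroupOf S) =
          QuotientGroup.mk ⟨_, hAS _ (c ^ n).2 s hs⟩ := h5
        rw [QuotientGroup.eq, Subgroup.mem_subgroupOf] at h6
        have h7 : s⁻¹ * (((c ^ n : A) : Γ) * s * ((c ^ n : A) : Γ)⁻¹) ∈ S1 := h6
        have h8 := hS1S s hs _ h7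
        rw [Subgroup.coe_zpow] at h8
        have h9 : s * (s⁻¹ * ((c : Γ) ^ n * s * ((c : Γ) ^ n)⁻¹)) * s⁻¹ =
          (c : Γ) ^ n * s * ((c : Γ) ^ n)⁻¹ * s⁻¹ := by group
        rwa [h9] at h8
    -- decomposition
    have hdec : ∀ c : A, ∃ (n : ℕ) (d : A), Φ d = 1 ∧ c = g ^ n * d := by
      intro c
      obtain ⟨n, hn⟩ := hg c
      refine ⟨n, (g ^ n)⁻¹ * c, ?_, by group⟩
      rw [map_mul, hn, ← map_pow, ← map_mul, inv_mul_cancel, map_one]
    obtain ⟨n1, d1, hd1, ha1⟩ := hdec ⟨a, ha⟩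
    obtain ⟨n2, d2, hd2, hb2⟩ := hdec ⟨b, hb⟩
    have ha1' : a = (g : Γ) ^ n1 * d1 := congrArg (fun x : A => (x : Γ)) ha1
    have hb2' : b = (g : Γ) ^ n2 * d2 := congrArg (fun x : A => (x : Γ)) hb2
    have hgn : ∀ n : ℕ, (g : Γ) ^ n ∈ A := fun n => A.pow_mem g.2 n
    obtain ⟨w1, hw1, hw1'⟩ := htrivB d2 hd2 _ (hgn n1)
    obtain ⟨w2, hw2, hw2'⟩ := htrivB d1 hd1 _ (hgn n2)
    obtain ⟨w3, hw3, hw3'⟩ := htrivB d2 hd2 _ d1.2
    have hgg : WC C1.subtype τ1 ((g : Γ) ^ n1) ((g : Γ) ^ n2) 1 := by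
      have h3 := WC_self (i := C1.subtype) Subtype.val_injective hτ1 (hfixA g g.2)
      have h4 := WC.npow_left (i := C1.subtype) Subtype.val_injective (hfixA g g.2) h3 n1
      have h5 := WC.npow_right (i := C1.subtype) Subtype.val_injective (hfixA _ (hgn n1)) h4 n2
      rwa [one_pow, one_pow] at h5
    have hgg' : WC C.subtype β ((g : Γ) ^ n1) ((g : Γ) ^ n2) 1 := by
      have h3 := WC_self (i := C.subtype) Subtype.val_injective hβ (hfixAC g g.2)
      have h4 := WC.npow_left (i := C.subtype) Subtype.val_injective (hfixAC g g.2) h3 n1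
      have h5 := WC.npow_right (i := C.subtype) Subtype.val_injective (hfixAC _ (hgn n1)) h4 n2
      rwa [one_pow, one_pow] at h5
    rw [ha1', hb2']
    refine ⟨1 * w1 * (w2⁻¹ * w3), ?_, ?_⟩
    · exact (WC.mul_right (i := C1.subtype) Subtype.val_injective hgg hw1).mul_left
        Subtype.val_injective (WC.mul_right (i := C1.subtype) Subtype.val_injective hw2.symm hw3)
    · exact (WC.mul_right (i := C.subtype) Subtype.val_injective hgg' hw1').mul_left
        Subtype.val_injective (WC.mul_right (i := C.subtype) Subtype.val_injective hw2'.symm hw3')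

end Cfsg.Agent.H676.RM.Chain
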