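import Mathlib
import Cfsg.Agent.H595.Count
import Cfsg.Agent.H676.RM.Star

/-!
# Characters of `K S` which stay irreducible on the normal `p`-complement `K`

* `LC j ξ l` : the linear character `l` of the `p`-group `S` attached to `ξ` : `l ^ d = det ξ` on `S`.
* `SD p i j` : `X` is the semidirect product of `K` by `S`.
* `exists_ext`, `ext_unique` : `ξ ↦ (ξ ∘ i, l)` is a bijection.
* `CC χ z ω` : the central character.
-/

set_option autoImplicit false
set_option linter.style.haveILetI false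
set_option linter.unusedSectionVars false

namespace Cfsg.Agent.H676.RM.Lc

open Cfsg Module
open Cfsg.Agent.Characters.Core Cfsg.Agent.H672 Cfsg.Agent.CharactersDeep.ExtUnique
open scoped ComplexConjugate

section root
variable {S : Type*} [Group S] [Finite S] {p : ℕ} [Fact p.Prime]

theorem eq_one_of_pow {x : ℂˣ} {d m : ℕ} (h : Nat.Coprime d m) (h1 : x ^ d = 1) (h2 : x ^ m = 1) :
    x = 1 := by
  have h3 := pow_gcd_eq_one.2 ⟨h1, h2⟩
  rwa [Nat.Coprime.gcd_eq_one h, pow_one] at h3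

theorem coprime_card (hS : IsPGroup p S) {d : ℕ} (hd : ¬ p ∣ d) : Nat.Coprime d (Nat.card S) := by
  obtain ⟨n, hn⟩ := IsPGroup.iff_card.1 hS
  rw [hn]
  exact (Nat.Coprime.pow_left n (((Fact.out : p.Prime).coprime_iff_not_dvd).2 hd)).symm

theorem exists_root (hS : IsPGroup p S) {d : ℕ} (hd : ¬ p ∣ d) (f : S →* ℂˣ) :
    ∃ l : S →* ℂˣ, ∀ s, l s ^ d = f s := by
  obtain ⟨a, b, hab⟩ := Nat.isCoprime_iff_coprime.2 (coprime_card hS hd)
  refine ⟨f ^ a, fun s => ?_⟩
  have h1 : f s ^ (Nat.card S) = 1 := by rw [← map_pow, pow_card_eq_one', map_one]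
  have h2 : (f ^ a) s = f s ^ a := rfl
  rw [h2, ← zpow_natCast, ← zpow_mul, show a * (d : ℤ) = 1 - (Nat.card S : ℤ) * b by
    rw [← hab]; ring, zpow_sub, zpow_mul, zpow_natCast, h1, one_zpow, inv_one, mul_one, zpow_one]

theorem root_unique (hS : IsPGroup p S) {d : ℕ} (hd : ¬ p ∣ d) {l l' : S →* ℂˣ}
    (h : ∀ s, l s ^ d = l' s ^ d) : l = l' := by
  refine MonoidHom.ext fun s => ?_
  rw [← mul_inv_eq_one]
  refine eq_one_of_pow (coprime_card hS hd) ?_ ?_
  · rw [mul_pow, inv_pow, h, mul_inv_cancel]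
  · rw [mul_pow, inv_pow, ← map_pow, ← map_pow, pow_card_eq_one', map_one, map_one, inv_one, mul_one]

end root

section LC
variable {S X : Type*} [Group S] [Group X] [Finite S] [Finite X] {p : ℕ} [Fact p.Prime]

/-- `l` is the linear character of `S` attached to `ξ`. -/
def LC (j : S →* X) (ξ : X → ℂ) (l : S →* ℂˣ) : Prop :=
  ∀ s, detChar ξ (j s) = (l s : ℂ) ^ charDegree ξ

theorem exists_LC (hS : IsPGroup p S) (j : S →* X) {ξ : X → ℂ} (hξ : IsIrrCharacter X ξ)
    (hd : ¬ p ∣ charDegree ξ) : ∃ l, LC j ξ l := by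
  obtain ⟨δ, hδ⟩ := exists_hom_detChar hξ
  obtain ⟨l, hl⟩ := exists_root hS hd (δ.comp j)
  refine ⟨l, fun s => ?_⟩
  rw [hδ, ← Units.val_pow_eq_pow_val, hl]
  rfl

theorem LC.unique (hS : IsPGroup p S) {j : S →* X} {ξ : X → ℂ}
    (hd : ¬ p ∣ charDegree ξ) {l l' : S →* ℂˣ} (h : LC j ξ l) (h' : LC j ξ l') : l = l' := by
  refine root_unique hS hd fun s => ?_
  apply Units.ext
  rw [Units.val_pow_eq_pow_val, Units.val_pow_eq_pow_val, ← h, ← h']

end LC

section SD
variable {K S X : Type*} [Group K] [Group S] [Group X] [Finite K] [Finite S] [Finite X]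
  {p : ℕ} [Fact p.Prime]

/-- `X` is the semidirect product of the `p'`-group `K` and the `p`-group `S`. -/
structure SD (p : ℕ) (i : K →* X) (j : S →* X) : Prop where
  inji : Function.Injective i
  injj : Function.Injective j
  nrm : i.range.Normal
  ndvd : ¬ p ∣ Nat.card K
  pS : IsPGroup p S
  dec : ∀ x, ∃ k s, x = i k * j s

variable {i : K →* X} {j : S →* X}

theorem SD.coprime (h : SD p i j) : (Nat.card K).Coprime (Nat.card S) :=
  coprime_card h.pS h.ndvd

theorem SD.disj (h : SD p i j) {k : K} {s : S} (hks : i k = j s) : s = 1 := by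
  have h1 : s ^ Nat.card K = 1 := by
    apply h.injj
    rw [map_pow, ← hks, ← map_pow, pow_card_eq_one', map_one, map_one]
  have h2 : s ^ Nat.card S = 1 := pow_card_eq_one'
  have h3 := pow_gcd_eq_one.2 ⟨h1, h2⟩
  rwa [Nat.Coprime.gcd_eq_one h.coprime, pow_one] at h3

theorem SD.bij (h : SD p i j) : haveI := h.nrm
    Function.Bijective ((QuotientGroup.mk' i.range).comp j) := by
  haveI := h.nrm
  constructor
  · rw [injective_iff_map_eq_one]
    intro s hs
    have h1 : (QuotientGroup.mk (j s) : X ⧸ i.range) = 1 := hs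
    rw [QuotientGroup.eq_one_iff] at h1
    obtain ⟨k, hk⟩ := h1
    exact h.disj hk
  · intro x
    obtain ⟨x, rfl⟩ := QuotientGroup.mk_surjective x
    obtain ⟨k, s, rfl⟩ := h.dec x
    refine ⟨s, ?_⟩
    rw [MonoidHom.comp_apply, QuotientGroup.mk'_apply, QuotientGroup.eq]
    have h2 : (j s)⁻¹ * (i k * j s) = (j s)⁻¹ * i k * ((j s)⁻¹)⁻¹ := by group
    rw [h2]
    exact h.nrm.conj_mem _ ⟨k, rfl⟩ _

theorem SD.exists_proj (h : SD p i j) : ∃ π : X →* S, (∀ k, π (i k) = 1) ∧ ∀ s, π (j s) = s := by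
  haveI := h.nrm
  let e := MulEquiv.ofBijective _ h.bij
  refine ⟨e.symm.toMonoidHom.comp (QuotientGroup.mk' i.range), fun k => ?_, fun s => ?_⟩
  · show e.symm (QuotientGroup.mk (i k)) = 1
    have hk : i k ∈ i.range := ⟨k, rfl⟩
    rw [(QuotientGroup.eq_one_iff (i k)).2 hk, map_one]
  · show e.symm (QuotientGroup.mk (j s)) = s
    rw [MulEquiv.symm_apply_eq]
    rfl

theorem SD.index_eq (h : SD p i j) : i.range.index = Nat.card S := by
  haveI := h.nrm
  exact (Nat.card_congr (MulEquiv.ofBijective _ h.bij).toEquiv).symm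

theorem SD.index_dvd (h : SD p i j) : ∃ k, i.range.index ∣ p ^ k := by
  obtain ⟨n, hn⟩ := IsPGroup.iff_card.1 h.pS
  exact ⟨n, by rw [h.index_eq, hn]⟩

theorem SD.irr_restrict (h : SD p i j) {ξ : X → ℂ} (hξ : IsIrrCharacter X ξ)
    (hd : ¬ p ∣ charDegree ξ) : IsIrrCharacter K (ξ ∘ i) := by
  obtain ⟨θ, hθ, ho⟩ := exists_under (f := i) hξ
  obtain ⟨k, hk⟩ := h.index_dvd
  rw [comp_eq_of_pindex i h.inji h.nrm Fact.out hk hξ hd hθ ho]
  exact hθ

theorem not_dvd_charDegree (h : ¬ p ∣ Nat.card K) {τ : K → ℂ} (hτ : IsIrrCharacter K τ) :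
    ¬ p ∣ charDegree τ := fun hd =>
  letI := Fintype.ofFinite K
  h (hd.trans (Cfsg.Agent.H593.GlaubermanP.charDegree_dvd hτ))

/-- invariance under `S` gives invariance under `X` -/
theorem SD.inv (h : SD p i j) {τ : K → ℂ} (hτ : IsClassFunction K τ)
    (hinv : ∀ s k k', i k' = j s * i k * (j s)⁻¹ → τ k' = τ k) :
    ∀ x k k', i k' = x * i k * x⁻¹ → τ k' = τ k := by
  intro x k k' hk
  obtain ⟨k0, s, rfl⟩ := h.dec x
  obtain ⟨k1, hk1⟩ := h.nrm.conj_mem (i k) ⟨k, rfl⟩ (j s)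
  have h1 : k' = k0 * k1 * k0⁻¹ := by
    apply h.inji
    rw [hk, map_mul, map_mul, map_inv, hk1]
    group
  rw [h1, hτ k1 k0, hinv s k k1 hk1]

theorem SD.exists_ext (h : SD p i j) {τ : K → ℂ} (hτ : IsIrrCharacter K τ)
    (hinv : ∀ s k k', i k' = j s * i k * (j s)⁻¹ → τ k' = τ k) (l : S →* ℂˣ) :
    ∃ ξ, IsIrrCharacter X ξ ∧ ξ ∘ i = τ ∧ LC j ξ l := by
  haveI := h.nrm
  have hinv' := h.inv (isIrr_isClassFunction hτ) hinv
  let e : K ≃* i.range := MonoidHom.ofInjective h.inji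
  have he : ∀ x : K, ((e x : i.range) : X) = i x := fun x => rfl
  have hτ' : IsIrrCharacter i.range (τ ∘ e.symm) :=
    isIrr_comp (e.symm : i.range →* K) e.symm.surjective hτ
  have hcard : Nat.card i.range = Nat.card K := (Nat.card_congr e.toEquiv).symm
  obtain ⟨χ, hχ, -⟩ := Cfsg.Agent.H595.Count.canon i.range
    (by rw [hcard, h.index_eq]; exact h.coprime) ⟨τ ∘ e.symm, hτ'⟩ (fun x n => by
      refine hinv' x (e.symm n) (e.symm _) ?_
      rw [← he, ← he, MulEquiv.apply_symm_apply, MulEquiv.apply_symm_apply])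
  have hχi : ∀ k, (χ : X → ℂ) (i k) = τ k := by
    intro k
    have h1 := hχ (e k)
    rw [he] at h1
    rw [h1]
    show τ (e.symm (e k)) = τ k
    rw [MulEquiv.symm_apply_apply]
  have hd : ¬ p ∣ charDegree (χ : X → ℂ) := by
    have h1 : charDegree (χ : X → ℂ) = charDegree τ := by
      rw [← charDegree_comp_one i]
      congr 1
      exact funext hχi
    rw [h1]
    exact not_dvd_charDegree h.ndvd hτ
  obtain ⟨r, hr⟩ := exists_LC h.pS j χ.2 hd
  obtain ⟨π, hπ1, hπ2⟩ := h.exists_proj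
  let μ : S →* ℂˣ := l * r⁻¹
  have hdeg : charDegree (fun g => (χ : X → ℂ) g * (μ.comp π) g) = charDegree (χ : X → ℂ) := by
    rw [Blocks.Basic.charDegree_def, Blocks.Basic.charDegree_def, map_one, Units.val_one, mul_one]
  refine ⟨fun g => (χ : X → ℂ) g * (μ.comp π) g, isIrr_mul_hom χ.2 _, ?_, ?_⟩
  · funext k
    show (χ : X → ℂ) (i k) * ((μ.comp π) (i k) : ℂ) = τ k
    rw [MonoidHom.comp_apply, hπ1, map_one, Units.val_one, mul_one, hχi]
  · intro s
    rw [hdeg, detChar_mul_hom χ.2 (coe_charDegree χ.2).symm (μ.comp π)]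
    show detChar (χ : X → ℂ) (j s) * ((μ.comp π) (j s) : ℂ) ^ charDegree (χ : X → ℂ) = _
    rw [hr, MonoidHom.comp_apply, hπ2, ← mul_pow]
    congr 1
    show (r s : ℂ) * ((l s * (r s)⁻¹ : ℂˣ) : ℂ) = l s
    rw [← Units.val_mul]
    congr 1
    rw [mul_comm, inv_mul_cancel_right]

theorem SD.ext_unique (h : SD p i j) {ξ1 ξ2 : X → ℂ} (h1 : IsIrrCharacter X ξ1)
    (h2 : IsIrrCharacter X ξ2) (hi : IsIrrCharacter K (ξ1 ∘ i)) (he : ξ2 ∘ i = ξ1 ∘ i)
    {l : S →* ℂˣ} (hl1 : LC j ξ1 l) (hl2 : LC j ξ2 l) : ξ1 = ξ2 := by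
  haveI := h.nrm
  let e : K ≃* i.range := MonoidHom.ofInjective h.inji
  have he' : ∀ x : K, ((e x : i.range) : X) = i x := fun x => rfl
  have hτ' : IsIrrCharacter i.range ((ξ1 ∘ i) ∘ e.symm) :=
    isIrr_comp (e.symm : i.range →* K) e.symm.surjective hi
  have hx : ∀ n : i.range, i (e.symm n) = n := fun n => by
    rw [← he', MulEquiv.apply_symm_apply]
  obtain ⟨β, hβ, hβ'⟩ := exists_hom_mul_of_restrict_eq i.range (isIrr_isCharacter h1)
    (isIrr_isCharacter h2) hτ' (fun n => by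
      show ξ1 n = ξ1 (i (e.symm n))
      rw [hx]) (fun n => by
      show ξ2 n = ξ1 (i (e.symm n))
      have := congrFun he (e.symm n)
      rw [Function.comp_apply, Function.comp_apply] at this
      rw [← this, hx])
  have hd1 : charDegree ξ1 = charDegree (ξ1 ∘ i) := (charDegree_comp_one i ξ1).symm
  have hd2 : charDegree ξ2 = charDegree ξ1 := by
    rw [hd1, ← he, charDegree_comp_one]
  have hd : ¬ p ∣ charDegree ξ1 := hd1 ▸ not_dvd_charDegree h.ndvd hi
  have h3 : ∀ s, β (j s) = 1 := by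
    intro s
    have h4 : detChar ξ2 (j s) = detChar ξ1 (j s) * (β (j s) : ℂ) ^ charDegree ξ1 := by
      have h5 := detChar_mul_hom h1 (coe_charDegree h1).symm β
      rw [← (funext hβ' : ξ2 = fun g => ξ1 g * β g)] at h5
      exact congrFun h5 (j s)
    rw [hl1 s, hl2 s, hd2] at h4
    have h6 : ((l s : ℂ) ^ charDegree ξ1) ≠ 0 := pow_ne_zero _ (Units.ne_zero _)
    have h7 : (β (j s) : ℂ) ^ charDegree ξ1 = 1 := by
      have := mul_left_cancel₀ h6 ((mul_one _).trans h4)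
      exact this.symm
    refine eq_one_of_pow (coprime_card h.pS hd) (Units.ext (by
      rw [Units.val_pow_eq_pow_val, h7, Units.val_one])) ?_
    rw [← map_pow, ← map_pow, pow_card_eq_one', map_one, map_one]
  funext x
  rw [hβ' x]
  obtain ⟨k, s, rfl⟩ := h.dec x
  rw [map_mul, hβ _ ⟨k, rfl⟩, h3, mul_one, Units.val_one, mul_one]

end SD

section CC
variable {X H : Type*} [Group X] [Finite X] [Group H] [Finite H]

/-- the value of the central character -/
def CC (χ : X → ℂ) (z : X) (ω : ℂ) : Prop := ∀ x, χ (z * x) = ω * χ x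

theorem exists_CC {χ : X → ℂ} (hχ : IsIrrCharacter X χ) {z : X} (hz : ∀ x, z * x = x * z) :
    ∃ ω : ℂ, CC χ z ω ∧ detChar χ z = ω ^ charDegree χ := by
  obtain ⟨n, ρ, hρ, rfl⟩ := hχ
  obtain ⟨c, hc⟩ := exists_smul_of_comm ρ hρ (ρ z) (fun g v => by
    show (ρ z * ρ g) v = (ρ g * ρ z) v
    rw [← map_mul, ← map_mul, hz])
  have hc' : ρ z = c • LinearMap.id := LinearMap.ext hc
  refine ⟨c, fun x => ?_, ?_⟩
  · show LinearMap.trace ℂ _ (ρ (z * x)) = c * LinearMap.trace ℂ _ (ρ x)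
    rw [map_mul, hc', smul_mul_assoc, map_smul, smul_eq_mul]
    rfl
  · rw [detChar_of_rep ρ hρ]
    show LinearMap.det (ρ z) = _
    rw [hc', LinearMap.det_smul, LinearMap.det_id, mul_one]
    congr 1
    symm
    apply charDegree_of_eq
    rw [Representation.char_one]

theorem CC.apply {χ : X → ℂ} {z : X} {ω : ℂ} (h : CC χ z ω) : χ z = ω * χ 1 := by
  have := h 1
  rwa [mul_one] at this

theorem CC.unique {χ : X → ℂ} (hχ : IsIrrCharacter X χ) {z : X} {ω ω' : ℂ} (h : CC χ z ω)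
    (h' : CC χ z ω') : ω = ω' := by
  obtain ⟨d, hd, hd'⟩ := isIrr_apply_one hχ
  have h1 := h.apply.symm.trans h'.apply
  exact mul_right_cancel₀ (by rw [hd']; exact_mod_cast hd.ne') h1

theorem CC.pow {χ : X → ℂ} {z : X} {ω : ℂ} (h : CC χ z ω) (n : ℕ) : CC χ (z ^ n) (ω ^ n) := by
  induction n with
  | zero => intro x; simp
  | succ n ih =>
    intro x
    rw [pow_succ, mul_assoc, ih, h, pow_succ, mul_assoc]

theorem CC.ne_zero {χ : X → ℂ} (hχ : IsIrrCharacter X χ) {z : X} {ω : ℂ} (h : CC χ z ω) :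
    ω ≠ 0 := by
  rintro rfl
  obtain ⟨d, hd, hd'⟩ := isIrr_apply_one hχ
  have := h z⁻¹
  rw [mul_inv_cancel, zero_mul, hd'] at this
  exact hd.ne' (by exact_mod_cast this)

theorem CC.pow_orderOf {χ : X → ℂ} (hχ : IsIrrCharacter X χ) {z : X} {ω : ℂ} (h : CC χ z ω) :
    ω ^ orderOf z = 1 := by
  have h1 := h.pow (orderOf z)
  rw [pow_orderOf_eq_one] at h1
  exact h1.unique hχ (fun x => by simp)

theorem CC_iff {χ : X → ℂ} (hχ : IsIrrCharacter X χ) {z : X} (hz : ∀ x, z * x = x * z) {ω : ℂ} :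
    CC χ z ω ↔ χ z = χ 1 * ω := by
  constructor
  · intro h
    rw [h.apply, mul_comm]
  · intro h
    obtain ⟨ω', h1, -⟩ := exists_CC hχ hz
    have h2 := h1.apply
    obtain ⟨d, hd, hd'⟩ := isIrr_apply_one hχ
    have h3 : χ 1 ≠ 0 := by rw [hd']; exact_mod_cast hd.ne'
    have : ω = ω' := by
      rw [h, mul_comm ω'] at h2
      exact mul_left_cancel₀ h3 h2
    rwa [this]

/-- central characters and constituents -/
theorem CC.of_over {f : H →* X} {χ : X → ℂ} {θ : H → ℂ} (hθ : IsIrrCharacter H θ)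
    (ho : Over f χ θ) {z : H} {ω ω' : ℂ} (h : CC χ (f z) ω) (h' : CC θ z ω') : ω = ω' := by
  letI := Fintype.ofFinite H
  rw [over_iff] at ho
  have hω' : ω' * conj ω' = 1 := by
    have h1 := h'.pow_orderOf hθ
    have h2 : ‖ω'‖ = 1 := by
      apply (pow_eq_one_iff_of_nonneg (norm_nonneg _) (orderOf_pos z).ne').1
      rw [← norm_pow, h1, norm_one]
    rw [Complex.mul_conj, Complex.normSq_eq_norm_sq, h2]
    norm_num
  have key : ω * classInner (χ ∘ f) θ = ω' * classInner (χ ∘ f) θ := by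
    rw [classInner_def, mul_left_comm, mul_left_comm ω']
    congr 1
    rw [Finset.mul_sum, Finset.mul_sum]
    have h1 : ∀ x, (χ ∘ f) (z * x) = ω * (χ ∘ f) x := fun x => by
      rw [Function.comp_apply, Function.comp_apply, map_mul, h]
    calc ∑ x, ω * ((χ ∘ f) x * conj (θ x)) = ∑ x, (χ ∘ f) (z * x) * conj (θ x) :=
          Finset.sum_congr rfl fun x _ => by rw [h1]; ring
      _ = ∑ x, (χ ∘ f) (z * x) * (ω' * conj (θ (z * x))) := by
          refine Finset.sum_congr rfl fun x _ => ?_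
          rw [h', map_mul, ← mul_assoc ω', hω', one_mul]
      _ = ∑ x, (χ ∘ f) x * (ω' * conj (θ x)) :=
          Equiv.sum_comp (Equiv.mulLeft z) (fun x => (χ ∘ f) x * (ω' * conj (θ x)))
      _ = _ := Finset.sum_congr rfl fun x _ => by ring
  exact mul_right_cancel₀ ho key

theorem CC.comp {f : H →* X} {χ : X → ℂ} {z : H} {ω : ℂ} (h : CC χ (f z) ω) : CC (χ ∘ f) z ω := by
  intro x
  rw [Function.comp_apply, Function.comp_apply, map_mul, h]

end CC

end Cfsg.Agent.H676.RM.Lc
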