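import Mathlib
import Cfsg.Agent.H676.RM.Lc
import Cfsg.Agent.H676.RM.Chain
import Cfsg.Agent.H672.RM.StepA

/-!
# The correspondence between characters of `K S` and of `C S`

`Sp D ξ ξ'` : `ξ` (resp. `ξ'`) is irreducible on `K` (resp. on `C`), the restrictions correspond under the
Glauberman correspondence, and the two linear characters of `S` are equal.
-/

set_option autoImplicit false
set_option linter.style.haveILetI false
set_option linter.unusedSectionVars false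

namespace Cfsg.Agent.H676.RM.Corr

open Cfsg Module Cfsg.Agent.H676.RM.Star Cfsg.Agent.H676.RM.Lc Cfsg.Agent.H676.RM.PairChar
open Cfsg.Agent.Characters.Core Cfsg.Agent.H672 Cfsg.Agent.CharactersDeep.ExtUnique
open scoped ComplexConjugate

variable {Γ : Type*} [Group Γ] [Finite Γ] {p : ℕ}

/-- `M = K S`, `M' = C S`. -/
structure Data (p : ℕ) (K S C M M' : Subgroup Γ) : Prop where
  cop : Cop p K S C
  KM : K ≤ M
  SM : S ≤ M
  M_le : M ≤ K ⊔ S
  CM : C ≤ M'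
  SM' : S ≤ M'
  M'_le : M' ≤ C ⊔ S

variable {K S C M M' : Subgroup Γ}

omit [Finite Γ] in
theorem cop_fix (h : Cop p K S C) : Cop p C S C where
  nrm := fun s hs g hg => by
    have := (h.mem_iff.1 hg).2 s hs
    rw [this, mul_inv_cancel_right]; exact hg
  ndvd := fun hd => h.ndvd (hd.trans (Subgroup.card_dvd_of_le h.le))
  pS := h.pS
  eq := by
    ext g
    rw [Subgroup.mem_inf, Subgroup.mem_centralizer_iff]
    exact ⟨fun hg => ⟨hg, (h.mem_iff.1 hg).2⟩, fun hg => hg.1⟩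

theorem sd_of (h : Cop p K S C) (hKM : K ≤ M) (hSM : S ≤ M) (hM : M ≤ K ⊔ S) :
    SD p (Subgroup.inclusion hKM) (Subgroup.inclusion hSM) := by
  have hSK : S ≤ Subgroup.normalizer (K : Set Γ) := fun s hs =>
    Cfsg.Agent.H676.RM.Step.mem_normalizer_of_conj (h.nrm s hs)
  have hMK : M ≤ Subgroup.normalizer (K : Set Γ) :=
    hM.trans (sup_le Subgroup.le_normalizer hSK)
  refine ⟨Subgroup.inclusion_injective _, Subgroup.inclusion_injective _, ?_, h.ndvd, h.pS, ?_⟩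
  · rw [Subgroup.inclusion_range]
    exact H672.RM.normal_subgroupOf hMK
  · intro x
    have h1 := Subgroup.coe_mul_of_right_le_normalizer_left K S hSK
    have h2 : (x : Γ) ∈ ((K ⊔ S : Subgroup Γ) : Set Γ) := hM x.2
    rw [h1] at h2
    obtain ⟨k, hk, s, hs, hks⟩ := h2
    exact ⟨⟨k, hk⟩, ⟨s, hs⟩, Subtype.ext hks.symm⟩

theorem Data.sd (D : Data p K S C M M') : SD p (Subgroup.inclusion D.KM) (Subgroup.inclusion D.SM) :=
  sd_of D.cop D.KM D.SM D.M_le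

theorem Data.sd' (D : Data p K S C M M') :
    SD p (Subgroup.inclusion D.CM) (Subgroup.inclusion D.SM') :=
  sd_of (cop_fix D.cop) D.CM D.SM' D.M'_le

/-- The correspondence. -/
structure Sp (D : Data p K S C M M') (ξ : M → ℂ) (ξ' : M' → ℂ) : Prop where
  irr : IsIrrCharacter M ξ
  irr' : IsIrrCharacter M' ξ'
  res : IsIrrCharacter K (ξ ∘ Subgroup.inclusion D.KM)
  res' : IsIrrCharacter C (ξ' ∘ Subgroup.inclusion D.CM)
  pp : PP p (Subgroup.inclusion D.cop.le) (ξ ∘ Subgroup.inclusion D.KM)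
    (ξ' ∘ Subgroup.inclusion D.CM)
  lc : ∃ l : S →* ℂˣ, LC (Subgroup.inclusion D.SM) ξ l ∧ LC (Subgroup.inclusion D.SM') ξ' l

variable [Fact p.Prime]

theorem Data.sinv (D : Data p K S C M M') {ξ : M → ℂ} (hξ : IsIrrCharacter M ξ) :
    SInv S K (ξ ∘ Subgroup.inclusion D.KM) := by
  intro s hs g g' hg
  have h1 : Subgroup.inclusion D.KM g' =
      ⟨s, D.SM hs⟩ * Subgroup.inclusion D.KM g * (⟨s, D.SM hs⟩ : M)⁻¹ := Subtype.ext hg
  rw [Function.comp_apply, Function.comp_apply, h1]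
  exact isIrr_isClassFunction hξ _ _

theorem Data.ndvd (D : Data p K S C M M') {ξ : M → ℂ}
    (hr : IsIrrCharacter K (ξ ∘ Subgroup.inclusion D.KM)) : ¬ p ∣ charDegree ξ := by
  rw [← charDegree_comp_one (Subgroup.inclusion D.KM)]
  exact not_dvd_charDegree D.cop.ndvd hr

theorem Data.ndvd' (D : Data p K S C M M') {ξ : M' → ℂ}
    (hr : IsIrrCharacter C (ξ ∘ Subgroup.inclusion D.CM)) : ¬ p ∣ charDegree ξ := by
  rw [← charDegree_comp_one (Subgroup.inclusion D.CM)]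
  exact not_dvd_charDegree (cop_fix D.cop).ndvd hr

theorem Data.exists_right (D : Data p K S C M M') {ξ : M → ℂ} (hξ : IsIrrCharacter M ξ)
    (hr : IsIrrCharacter K (ξ ∘ Subgroup.inclusion D.KM)) : ∃ ξ', Sp D ξ ξ' := by
  obtain ⟨β, hβ, hP, -⟩ := star D.cop hr (D.sinv hξ)
  obtain ⟨l, hl⟩ := exists_LC D.cop.pS (Subgroup.inclusion D.SM) hξ (D.ndvd hr)
  obtain ⟨ξ', h1, h2, h3⟩ := D.sd'.exists_ext hβ (fun s k k' hk => by
    congr 1
    apply Subtype.ext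
    have h4 := congrArg (fun z : M' => (z : Γ)) hk
    have h5 : (k' : Γ) = s * k * (s : Γ)⁻¹ := h4
    rw [h5, (D.cop.mem_iff.1 k.2).2 s s.2, mul_inv_cancel_right]) l
  exact ⟨ξ', hξ, h1, hr, by rw [h2]; exact hβ, by rw [h2]; exact hP, l, hl, h3⟩

theorem Data.exists_left (D : Data p K S C M M') {ξ' : M' → ℂ} (hξ' : IsIrrCharacter M' ξ')
    (hr : IsIrrCharacter C (ξ' ∘ Subgroup.inclusion D.CM)) : ∃ ξ, Sp D ξ ξ' := by
  obtain ⟨τ, hτ, hτS, hP⟩ := star_surj D.cop hr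
  obtain ⟨l, hl⟩ := exists_LC D.cop.pS (Subgroup.inclusion D.SM') hξ' (D.ndvd' hr)
  obtain ⟨ξ, h1, h2, h3⟩ := D.sd.exists_ext hτ (fun s k k' hk => by
    have h4 := congrArg (fun z : M => (z : Γ)) hk
    exact hτS s s.2 k k' h4) l
  exact ⟨ξ, h1, hξ', by rw [h2]; exact hτ, hr, by rw [h2]; exact hP, l, h3, hl⟩

theorem Sp.unique_right {D : Data p K S C M M'} {ξ : M → ℂ} {ξ1 ξ2 : M' → ℂ} (h1 : Sp D ξ ξ1)
    (h2 : Sp D ξ ξ2) : ξ1 = ξ2 := by
  obtain ⟨β, -, -, hu⟩ := star D.cop h1.res (D.sinv h1.irr)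
  have h3 := hu _ h1.res' h1.pp
  have h4 := hu _ h2.res' h2.pp
  obtain ⟨l1, hl1, hl1'⟩ := h1.lc
  obtain ⟨l2, hl2, hl2'⟩ := h2.lc
  have h5 := hl1.unique D.cop.pS (D.ndvd h1.res) hl2
  subst h5
  exact D.sd'.ext_unique h1.irr' h2.irr' h1.res' (h4.trans h3.symm) hl1' hl2'

theorem Sp.unique_left {D : Data p K S C M M'} {ξ1 ξ2 : M → ℂ} {ξ' : M' → ℂ} (h1 : Sp D ξ1 ξ')
    (h2 : Sp D ξ2 ξ') : ξ1 = ξ2 := by
  have h3 := star_inj D.cop h1.res h2.res (D.sinv h1.irr) (D.sinv h2.irr) h1.res' h1.pp h2.pp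
  obtain ⟨l1, hl1, hl1'⟩ := h1.lc
  obtain ⟨l2, hl2, hl2'⟩ := h2.lc
  have h5 := hl1'.unique D.cop.pS (D.ndvd' h1.res') hl2'
  subst h5
  exact D.sd.ext_unique h1.irr h2.irr h1.res h3.symm hl1 hl2

theorem detChar_comp {X Y : Type*} [Group X] [Group Y] [Finite X] [Finite Y] (f : X →* Y)
    {χ : Y → ℂ} (hχ : IsIrrCharacter Y χ) (hf : Function.Surjective f) (x : X) :
    detChar (χ ∘ f) x = detChar χ (f x) := by
  have h1 := isIrr_comp f hf hχ
  obtain ⟨n, ρ, hρ, rfl⟩ := hχ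
  have h2 : (ρ.character ∘ f) = Representation.character (ρ.comp f) := rfl
  have h3 : Representation.IsIrreducible (ρ.comp f) := by
    obtain ⟨k, σ', hσ', hσ''⟩ := h1
    exact CharDeep.IrrEquiv.isIrreducible_of_character_eq σ' (ρ.comp f) hσ' hσ''
  rw [h2, detChar_of_rep _ h3, detChar_of_rep ρ hρ]
  rfl

theorem Sp.conj {D : Data p K S C M M'} {ξ : M → ℂ} {ξ' : M' → ℂ} (h : Sp D ξ ξ') {x : Γ}
    (hK : x ∈ Subgroup.normalizer (K : Set Γ)) (hS : x ∈ Subgroup.normalizer (S : Set Γ))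
    (hC : x ∈ Subgroup.normalizer (C : Set Γ))
    (hM : x ∈ Subgroup.normalizer (M : Set Γ)) (hM' : x ∈ Subgroup.normalizer (M' : Set Γ)) :
    Sp D (H672.RM.tw M x ξ) (H672.RM.tw M' x ξ') := by
  have e1 : H672.RM.tw M x ξ ∘ Subgroup.inclusion D.KM =
      H672.RM.tw K x (ξ ∘ Subgroup.inclusion D.KM) := by
    funext k
    rw [Function.comp_apply, H672.RM.tw_apply hM, H672.RM.tw_apply hK]
    rfl
  have e2 : H672.RM.tw M' x ξ' ∘ Subgroup.inclusion D.CM =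
      H672.RM.tw C x (ξ' ∘ Subgroup.inclusion D.CM) := by
    funext k
    rw [Function.comp_apply, H672.RM.tw_apply hM', H672.RM.tw_apply hC]
    rfl
  obtain ⟨l, hl, hl'⟩ := h.lc
  refine ⟨H672.RM.isIrr_tw hM h.irr, H672.RM.isIrr_tw hM' h.irr', ?_, ?_, ?_, ?_⟩
  · rw [e1]; exact H672.RM.isIrr_tw hK h.res
  · rw [e2]; exact H672.RM.isIrr_tw hC h.res'
  · rw [e1, e2]
    obtain ⟨m, hm, hpm⟩ := h.pp
    refine ⟨m, ?_, hpm⟩
    rw [← hm]
    symm
    refine mu_conj D.cop.le (x := x) (fun g hg => H672.RM.conj_mem_of_mem hC ⟨g, hg⟩) ?_ ?_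
    · intro g g' hg
      rw [H672.RM.tw_apply' hK _ g g' hg]
    · intro g g' hg
      rw [H672.RM.tw_apply' hC _ g g' hg]
  · let f : S →* S := (H672.RM.cj hS).toMonoidHom
    refine ⟨l.comp f, fun s => ?_, fun s => ?_⟩
    · rw [H672.RM.charDegree_tw hM, H672.RM.tw_eq_comp hM]
      have h1 := detChar_comp (H672.RM.cj hM).toMonoidHom h.irr (H672.RM.cj hM).surjective
        (Subgroup.inclusion D.SM s)
      have h2 : detChar (ξ ∘ (H672.RM.cj hM)) (Subgroup.inclusion D.SM s) =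
        detChar ξ (H672.RM.cj hM (Subgroup.inclusion D.SM s)) := h1
      rw [h2]
      exact hl (f s)
    · rw [H672.RM.charDegree_tw hM', H672.RM.tw_eq_comp hM']
      have h1 := detChar_comp (H672.RM.cj hM').toMonoidHom h.irr' (H672.RM.cj hM').surjective
        (Subgroup.inclusion D.SM' s)
      have h2 : detChar (ξ' ∘ (H672.RM.cj hM')) (Subgroup.inclusion D.SM' s) =
        detChar ξ' (H672.RM.cj hM' (Subgroup.inclusion D.SM' s)) := h1
      rw [h2]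
      exact hl' (f s)

theorem detChar_one {X : Type*} [Group X] [Finite X] {χ : X → ℂ} (hχ : IsIrrCharacter X χ)
    (z : X) : detChar χ z ^ orderOf z = 1 := by
  obtain ⟨δ, hδ⟩ := exists_hom_detChar hχ
  rw [hδ, ← Units.val_pow_eq_pow_val, ← map_pow, pow_orderOf_eq_one, map_one, Units.val_one]

/-- value on `S ∩ Z(M)` -/
theorem cc_eq_of_mem {X : Type*} [Group X] [Finite X] {j : S →* X} (hS : IsPGroup p S)
    {ξ : X → ℂ} (hξ : IsIrrCharacter X ξ) (hd : ¬ p ∣ charDegree ξ) {l : S →* ℂˣ}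
    (hl : LC j ξ l) {s : S} (hs : ∀ x, j s * x = x * j s) {ω : ℂ} (hω : CC ξ (j s) ω) :
    ω = l s := by
  obtain ⟨ω', h1, h2⟩ := exists_CC hξ hs
  obtain rfl := h1.unique hξ hω
  rw [hl s] at h2
  have h3 := h1.ne_zero hξ
  have h4 : (Units.mk0 ω' h3) ^ charDegree ξ = (l s) ^ charDegree ξ := by
    apply Units.ext
    rw [Units.val_pow_eq_pow_val, Units.val_pow_eq_pow_val, Units.val_mk0, h2]
  have h5 : (Units.mk0 ω' h3) * (l s)⁻¹ = 1 := by
    refine eq_one_of_pow (coprime_card hS hd) ?_ ?_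
    · rw [mul_pow, h4, inv_pow, mul_inv_cancel]
    · have h6 : (Units.mk0 ω' h3) ^ Nat.card S = 1 := by
        apply Units.ext
        rw [Units.val_pow_eq_pow_val, Units.val_mk0, Units.val_one]
        have h7 := h1.pow (Nat.card S)
        rw [← map_pow, pow_card_eq_one', map_one] at h7
        exact h7.unique hξ (fun x => by simp)
      rw [mul_pow, h6, inv_pow, ← map_pow, pow_card_eq_one', map_one, inv_one, mul_one]
  have h6 := mul_inv_eq_one.1 h5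
  exact congrArg Units.val h6

/-- **Compatibility with central elements.** -/
theorem Sp.cc {D : Data p K S C M M'} {ξ : M → ℂ} {ξ' : M' → ℂ} (h : Sp D ξ ξ') {z : Γ}
    (hz : z ∈ Subgroup.center Γ) (hzM : z ∈ M) (hzM' : z ∈ M') {a b : ℕ} (hab : Nat.Coprime a b)
    (ha : z ^ a ∈ C) (hb : z ^ b ∈ S) {ω ω' : ℂ} (hω : CC ξ ⟨z, hzM⟩ ω) (hω' : CC ξ' ⟨z, hzM'⟩ ω') :
    ω = ω' := by
  have hcz : ∀ n : ℕ, ∀ x : Γ, z ^ n * x = x * z ^ n := fun n x =>
    (Subgroup.mem_center_iff.1 (Subgroup.pow_mem _ hz n) x).symm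
  have h1 : ω ^ a = ω' ^ a := by
    have e1 : CC ξ (Subgroup.inclusion D.KM (Subgroup.inclusion D.cop.le ⟨z ^ a, ha⟩)) (ω ^ a) :=
      hω.pow a
    have e2 : CC ξ' (Subgroup.inclusion D.CM ⟨z ^ a, ha⟩) (ω' ^ a) := hω'.pow a
    exact CC.of_over h.res' h.pp.over e1.comp e2.comp
  have h2 : ω ^ b = ω' ^ b := by
    obtain ⟨l, hl, hl'⟩ := h.lc
    have e1 := cc_eq_of_mem D.cop.pS h.irr (D.ndvd h.res) hl (s := ⟨z ^ b, hb⟩)
      (fun x => Subtype.ext (hcz b x)) (hω.pow b)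
    have e2 := cc_eq_of_mem D.cop.pS h.irr' (D.ndvd' h.res') hl' (s := ⟨z ^ b, hb⟩)
      (fun x => Subtype.ext (hcz b x)) (hω'.pow b)
    rw [e1, e2]
  have h3 := hω.ne_zero h.irr
  have h4 := hω'.ne_zero h.irr'
  have h5 : (Units.mk0 ω h3) * (Units.mk0 ω' h4)⁻¹ = 1 := by
    refine eq_one_of_pow hab ?_ ?_
    · rw [mul_pow, inv_pow, mul_inv_eq_one]
      exact Units.ext h1
    · rw [mul_pow, inv_pow, mul_inv_eq_one]
      exact Units.ext h2
  exact congrArg Units.val (mul_inv_eq_one.1 h5)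

end Cfsg.Agent.H676.RM.Corr
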