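import Mathlib
import Cfsg.Agent.H676.RM.Corr

/-!
# The numbers of characters over corresponding characters of `K S` and `C S` agree

`fiber` : the Gallagher count.
-/

set_option autoImplicit false
set_option linter.style.haveILetI false
set_option linter.unusedSectionVars false

namespace Cfsg.Agent.H676.RM.Fiber

open Cfsg Module Cfsg.Agent.H676.RM.Star Cfsg.Agent.H676.RM.Lc Cfsg.Agent.H676.RM.PairChar
open Cfsg.Agent.H676.RM.Corr Cfsg.Agent.H676.RM.Chain Cfsg.Agent.H672.RM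
open Cfsg.Agent.Characters.Core Cfsg.Agent.H672 Cfsg.Agent.CharactersDeep.ExtUnique
open scoped ComplexConjugate commutatorElement

variable {Γ : Type*} [Group Γ] {p : ℕ} {K S C M M' : Subgroup Γ}

theorem comm_closure {T C : Subgroup Γ} (hCn : ∀ t ∈ T, ∀ c ∈ C, t * c * t⁻¹ ∈ C) (b : Γ)
    (s : Set Γ) (hs : s ⊆ T) (h : ∀ a ∈ s, ⁅a, b⁆ ∈ C) : ∀ a ∈ Subgroup.closure s, ⁅a, b⁆ ∈ C := by
  have key : ∀ a ∈ Subgroup.closure s, a ∈ T ∧ ⁅a, b⁆ ∈ C := by
    intro a ha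
    induction ha using Subgroup.closure_induction with
    | mem x hx => exact ⟨hs hx, h x hx⟩
    | one => exact ⟨T.one_mem, by simp⟩
    | mul x y _ _ hx hy =>
      refine ⟨T.mul_mem hx.1 hy.1, ?_⟩
      have e : ⁅x * y, b⁆ = x * ⁅y, b⁆ * x⁻¹ * ⁅x, b⁆ := by
        simp only [commutatorElement_def]; group
      rw [e]
      exact C.mul_mem (hCn x hx.1 _ hy.2) hx.2
    | inv x _ hx =>
      refine ⟨T.inv_mem hx.1, ?_⟩
      have e : ⁅x⁻¹, b⁆ = x⁻¹ * ⁅x, b⁆⁻¹ * x⁻¹⁻¹ := by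
        simp only [commutatorElement_def]; group
      rw [e]
      exact hCn _ (T.inv_mem hx.1) _ (C.inv_mem hx.2)
  exact fun a ha => (key a ha).2

theorem comm_closure_pair {T C : Subgroup Γ} (hCn : ∀ t ∈ T, ∀ c ∈ C, t * c * t⁻¹ ∈ C) {x y : Γ}
    (hx : x ∈ T) (hy : y ∈ T) (hxy : ⁅x, y⁆ ∈ C) :
    ∀ a ∈ Subgroup.closure {x, y}, ∀ b ∈ Subgroup.closure {x, y}, ⁅a, b⁆ ∈ C := by
  have hs : ({x, y} : Set Γ) ⊆ T := by
    rintro z (rfl | rfl)
    exacts [hx, hy]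
  have hyx : ⁅y, x⁆ ∈ C := by
    rw [← commutatorElement_inv]; exact C.inv_mem hxy
  have h1 : ∀ a ∈ Subgroup.closure {x, y}, ⁅a, y⁆ ∈ C := by
    refine comm_closure hCn y _ hs ?_
    rintro z (rfl | rfl)
    · exact hxy
    · rw [commutatorElement_self]; exact C.one_mem
  have h2 : ∀ a ∈ Subgroup.closure {x, y}, ⁅a, x⁆ ∈ C := by
    refine comm_closure hCn x _ hs ?_
    rintro z (rfl | rfl)
    · rw [commutatorElement_self]; exact C.one_mem
    · exact hyx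
  intro a ha b hb
  rw [← commutatorElement_inv]
  refine C.inv_mem (comm_closure hCn a _ hs ?_ b hb)
  rintro z (rfl | rfl)
  · rw [← commutatorElement_inv]; exact C.inv_mem (h2 a ha)
  · rw [← commutatorElement_inv]; exact C.inv_mem (h1 a ha)

variable [Finite Γ]

theorem fix_of_stab {U : Subgroup Γ} (hMU : M ≤ U) {ξ : M → ℂ} {t : U} (ht : (t : Γ) ∈ stab ξ) :
    Fix (Subgroup.inclusion hMU) ξ t := by
  refine ⟨fun n => ⟨⟨_, conj_mem_of_mem ht.1 n⟩, rfl⟩, fun n n' hn => ?_⟩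
  have h1 : (n' : Γ) = t * n * (t : Γ)⁻¹ := congrArg (fun z : U => (z : Γ)) hn
  rw [← tw_apply' ht.1 ξ n n' h1, ht.2]

theorem WC_inclusion_iff {U : Subgroup Γ} (hMU : M ≤ U) {ξ : M → ℂ} {x y : U} {w : ℂ} :
    WC (Subgroup.inclusion hMU) ξ x y w ↔ WC M.subtype ξ (x : Γ) (y : Γ) w :=
  (WC.comp_iff (i := Subgroup.inclusion hMU) (j := U.subtype) Subtype.val_injective).symm

theorem WC_of_restrict {ξ : M → ℂ} (hξ : IsIrrCharacter M ξ) (hKM : K ≤ M)
    (hr : IsIrrCharacter K (ξ ∘ Subgroup.inclusion hKM)) {x y : Γ} {w : ℂ}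
    (hx : Fix M.subtype ξ x) (hy : Fix M.subtype ξ y)
    (hxK : x ∈ Subgroup.normalizer (K : Set Γ)) (hyK : y ∈ Subgroup.normalizer (K : Set Γ))
    (hxy : ⁅x, y⁆ ∈ K) (h : WC K.subtype (ξ ∘ Subgroup.inclusion hKM) x y w) :
    WC M.subtype ξ x y w := by
  obtain ⟨w', hw'⟩ := exists_WC (i := M.subtype) Subtype.val_injective hξ hx hy
    (c := ⟨⁅x, y⁆, hKM hxy⟩) rfl
  have h1 : WC (M.subtype.comp (Subgroup.inclusion hKM)) (ξ ∘ Subgroup.inclusion hKM) x y w' := by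
    refine WC.restrict (i := M.subtype) Subtype.val_injective hw' hr ?_ ?_ ?_ ?_ ?_
    · exact fun a => ⟨⟨_, conj_mem_of_mem hxK a⟩, rfl⟩
    · intro a
      refine ⟨⟨_, conj_mem_of_mem (Subgroup.inv_mem _ hxK) a⟩, ?_⟩
      show x⁻¹ * (a : Γ) * x⁻¹⁻¹ = x⁻¹ * a * x
      rw [inv_inv]
    · exact fun a => ⟨⟨_, conj_mem_of_mem hyK a⟩, rfl⟩
    · intro a
      refine ⟨⟨_, conj_mem_of_mem (Subgroup.inv_mem _ hyK) a⟩, ?_⟩
      show y⁻¹ * (a : Γ) * y⁻¹⁻¹ = y⁻¹ * a * y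
      rw [inv_inv]
    · exact ⟨⟨⁅x, y⁆, hxy⟩, rfl⟩
  have h2 : w' = w := WC.unique (i := K.subtype) Subtype.val_injective h1 h
  rwa [← h2]

/-- **The count.** -/
theorem fiber [Fact p.Prime] (D : Data p K S C M M') {ξ : M → ℂ} {ξ' : M' → ℂ} (h : Sp D ξ ξ')
    (T U V : Subgroup Γ)
    (hTp : ∀ t ∈ T, ¬ p ∣ orderOf t) (hTK : T ≤ Subgroup.normalizer (K : Set Γ))
    (hTS : T ≤ Subgroup.normalizer (S : Set Γ))
    (hTM : T ⊓ M ≤ C) (hTM' : T ⊓ M' ≤ C) (hMU : M ≤ U) (hMV : M' ≤ V) (hTU : T ≤ U) (hTV : T ≤ V)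
    (hU : U ≤ stab ξ) (hV : V ≤ stab ξ') (hUT : ∀ u ∈ U, ∃ m ∈ M, ∃ t ∈ T, u = m * t)
    (hVT : ∀ u ∈ V, ∃ m ∈ M', ∃ t ∈ T, u = m * t) :
    Nat.card {χ : IrrCharacter U // Over (Subgroup.inclusion hMU) (χ : U → ℂ) ξ} =
      Nat.card {ψ : IrrCharacter V // Over (Subgroup.inclusion hMV) (ψ : V → ℂ) ξ'} := by
  classical
  letI := Fintype.ofFinite T
  have hTC : ∀ t ∈ T, ∀ c ∈ C, t * c * t⁻¹ ∈ C := by
    intro t ht
    refine D.cop.nrm_C (fun g hg => conj_mem_of_mem (hTK ht) ⟨g, hg⟩) (fun s hs => ?_)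
    have := conj_mem_of_mem (Subgroup.inv_mem _ (hTS ht)) ⟨s, hs⟩
    rwa [inv_inv] at this
  have hTCn : T ≤ Subgroup.normalizer (C : Set Γ) := fun t ht =>
    Step.mem_normalizer_of_conj (hTC t ht)
  have h1 := countC (H := T) (Subgroup.inclusion hMU) (Subgroup.inclusion_injective _)
    (by rw [Subgroup.inclusion_range]; exact normal_subgroupOf (fun u hu => (hU hu).1)) h.irr
    (fun g n n' hn => (fix_of_stab hMU (hU g.2)).inv n n' hn)
    (Subgroup.inclusion hTU) (Subgroup.inclusion_injective _) (fun g => by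
      obtain ⟨m, hm, t, ht, hg⟩ := hUT g g.2
      exact ⟨⟨m, hm⟩, ⟨t, ht⟩, Subtype.ext hg⟩)
  have h2 := countC (H := T) (Subgroup.inclusion hMV) (Subgroup.inclusion_injective _)
    (by rw [Subgroup.inclusion_range]; exact normal_subgroupOf (fun u hu => (hV hu).1)) h.irr'
    (fun g n n' hn => (fix_of_stab hMV (hV g.2)).inv n n' hn)
    (Subgroup.inclusion hTV) (Subgroup.inclusion_injective _) (fun g => by
      obtain ⟨m, hm, t, ht, hg⟩ := hVT g g.2
      exact ⟨⟨m, hm⟩, ⟨t, ht⟩, Subtype.ext hg⟩)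
  have h3 : ∀ t t' : T, OmC (Subgroup.inclusion hMU) ξ (Subgroup.inclusion hTU t)
      (Subgroup.inclusion hTU t') = OmC (Subgroup.inclusion hMV) ξ' (Subgroup.inclusion hTV t)
      (Subgroup.inclusion hTV t') := by
    intro t t'
    by_cases hc : ⁅(t : Γ), (t' : Γ)⁆ ∈ C
    · have hA : Subgroup.closure {(t : Γ), (t' : Γ)} ≤ T := by
        rw [Subgroup.closure_le]
        rintro z (rfl | rfl)
        exacts [t.2, t'.2]
      have hfix : ∀ a ∈ Subgroup.closure {(t : Γ), (t' : Γ)},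
          Fix K.subtype (ξ ∘ Subgroup.inclusion D.KM) a := by
        intro a ha
        have haT := hA ha
        have hst := hU (hTU haT)
        refine ⟨fun n => ⟨⟨_, conj_mem_of_mem (hTK haT) n⟩, rfl⟩, fun n n' hn => ?_⟩
        rw [Function.comp_apply, Function.comp_apply,
          ← tw_apply' hst.1 ξ (Subgroup.inclusion D.KM n) (Subgroup.inclusion D.KM n') hn, hst.2]
      obtain ⟨w, hw1, hw2⟩ := chain (Subgroup.closure {(t : Γ), (t' : Γ)})
        (fun a ha => hTp a (hA ha)) h.res hfix (Nat.card S) S C le_rfl D.cop (D.sinv h.irr)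
        (fun a ha s hs => conj_mem_of_mem (hTS (hA ha)) ⟨s, hs⟩)
        (comm_closure_pair hTC t.2 t'.2 hc) _ h.res' h.pp (t : Γ)
        (Subgroup.subset_closure (by simp)) (t' : Γ) (Subgroup.subset_closure (by simp))
      have hf : ∀ a : T, Fix M.subtype ξ (a : Γ) := fun a => by
        have hst := hU (hTU a.2)
        refine ⟨fun n => ⟨⟨_, conj_mem_of_mem hst.1 n⟩, rfl⟩, fun n n' hn => ?_⟩
        rw [← tw_apply' hst.1 ξ n n' hn, hst.2]
      have hf' : ∀ a : T, Fix M'.subtype ξ' (a : Γ) := fun a => by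
        have hst := hV (hTV a.2)
        refine ⟨fun n => ⟨⟨_, conj_mem_of_mem hst.1 n⟩, rfl⟩, fun n n' hn => ?_⟩
        rw [← tw_apply' hst.1 ξ' n n' hn, hst.2]
      have hw3 := WC_of_restrict h.irr D.KM h.res (hf t) (hf t') (hTK t.2) (hTK t'.2)
        (D.cop.le hc) hw1
      have hw4 := WC_of_restrict h.irr' D.CM h.res' (hf' t) (hf' t') (hTCn t.2) (hTCn t'.2)
        hc hw2
      rw [OmC_of_WC (Subgroup.inclusion_injective _) ((WC_inclusion_iff hMU).2 hw3),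
        OmC_of_WC (Subgroup.inclusion_injective _) ((WC_inclusion_iff hMV).2 hw4)]
    · rw [OmC_of_not, OmC_of_not]
      · rintro ⟨c, hc'⟩
        have h4 : (c : Γ) = ⁅(t : Γ), (t' : Γ)⁆ := congrArg (fun z : V => (z : Γ)) hc'
        exact hc (hTM' ⟨T.mul_mem (T.mul_mem (T.mul_mem t.2 t'.2) (T.inv_mem t.2))
          (T.inv_mem t'.2), h4 ▸ c.2⟩)
      · rintro ⟨c, hc'⟩
        have h4 : (c : Γ) = ⁅(t : Γ), (t' : Γ)⁆ := congrArg (fun z : U => (z : Γ)) hc'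
        exact hc (hTM ⟨T.mul_mem (T.mul_mem (T.mul_mem t.2 t'.2) (T.inv_mem t.2))
          (T.inv_mem t'.2), h4 ▸ c.2⟩)
  have h4 : Nat.card {t : T // Subgroup.inclusion hTU t ∈ (Subgroup.inclusion hMU).range} =
      Nat.card {t : T // Subgroup.inclusion hTV t ∈ (Subgroup.inclusion hMV).range} := by
    refine Nat.card_congr (Equiv.subtypeEquivRight fun t => ?_)
    rw [Subgroup.inclusion_range, Subgroup.inclusion_range, Subgroup.mem_subgroupOf,
      Subgroup.mem_subgroupOf]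
    constructor
    · intro ht
      exact D.CM (hTM ⟨t.2, ht⟩)
    · intro ht
      exact D.KM (D.cop.le (hTM' ⟨t.2, ht⟩))
  have h5 : (Nat.card {t : T // Subgroup.inclusion hTV t ∈ (Subgroup.inclusion hMV).range} : ℂ) ≠ 0 := by
    have : Nonempty {t : T // Subgroup.inclusion hTV t ∈ (Subgroup.inclusion hMV).range} :=
      ⟨⟨1, by rw [map_one]; exact Subgroup.one_mem _⟩⟩
    exact_mod_cast Nat.card_pos.ne'
  have h6 : (Nat.card T : ℂ) ≠ 0 := by exact_mod_cast Nat.card_pos.ne'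
  simp only [h3] at h1
  rw [← h2, h4] at h1
  have h7 := mul_right_cancel₀ (mul_ne_zero h6 h5) h1
  exact_mod_cast h7

end Cfsg.Agent.H676.RM.Fiber
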